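import Mathlib
import Cfsg.Agent.Classical.SL2Sylow
import Cfsg.Agent.ProjExt.Stem
import Cfsg.Agent.Suzuki.Multiplier

/-!
Central extensions of `SL(2, F)` by a prime `r` different from the characteristic.
-/

set_option autoImplicit false

namespace Cfsg.Agent.SLMult

open Matrix
open scoped MatrixGroups

/-- A central extension by an involution of a generalised quaternion group has no kernel element in
its derived group. -/
theorem quaternion_notMem {P : Type*} [Group P] {N : ℕ} [NeZero N] (hN : Even N)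
    (g : P →* QuaternionGroup N) (hg : Function.Surjective g) (hc : g.ker ≤ Subgroup.center P)
    (h2 : ∀ w ∈ g.ker, w ^ 2 = 1) {z : P} (hz : z ∈ g.ker) (hzc : z ∈ commutator P) : z = 1 := by
  obtain ⟨A, hA⟩ := hg (QuaternionGroup.a 1)
  obtain ⟨B, hB⟩ := hg (QuaternionGroup.xa 0)
  have hker : ∀ {w}, g w = 1 → ∀ y, Commute y w := fun hw y => Subgroup.mem_center_iff.mp (hc hw) y
  set w := B * A * B⁻¹ * A with hwdef
  have hw : g w = 1 := by
    simp only [hwdef, map_mul, map_inv, hA, hB, QuaternionGroup.xa_mul_a]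
    rw [mul_eq_one_iff_eq_inv, mul_inv_eq_iff_eq_mul]
    show QuaternionGroup.xa (0 + 1) = QuaternionGroup.a (-1) * QuaternionGroup.xa 0
    rw [QuaternionGroup.a_mul_xa]; congr 1; ring
  have hw2 : w ^ 2 = 1 := h2 w hw
  have hBA : B * A * B⁻¹ = w * A⁻¹ := by rw [hwdef]; group
  -- `A` has order dividing `2 N`
  have hAN : g (A ^ N) = g (B * B) := by
    rw [map_pow, map_mul, hA, hB, QuaternionGroup.a_one_pow, QuaternionGroup.xa_mul_xa, sub_zero, add_zero]
  have hBAN : Commute B (A ^ N) := by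
    have h1 : g ((B * B)⁻¹ * A ^ N) = 1 := by rw [map_mul, map_inv, hAN, inv_mul_cancel]
    have h2' : Commute B (B * B) := (Commute.refl B).mul_right (Commute.refl B)
    have := h2'.mul_right (hker h1 B)
    rwa [mul_inv_cancel_left] at this
  have h2N : A ^ (2 * N) = 1 := by
    have h1 : (B * A * B⁻¹) ^ N = A ^ N := by rw [conj_pow, hBAN.eq, mul_inv_cancel_right]
    rw [hBA, ((hker hw A⁻¹).symm).mul_pow, inv_pow] at h1
    obtain ⟨m, rfl⟩ := hN
    have e : w ^ (m + m) = 1 := by rw [← two_mul, pow_mul, hw2, one_pow]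
    rw [e, one_mul, inv_eq_iff_mul_eq_one, ← pow_add, ← two_mul] at h1
    exact h1
  set c := B * A * B⁻¹ * A⁻¹ with hcdef
  have hcw : c = w * (A⁻¹ * A⁻¹) := by rw [hcdef, hBA, mul_assoc]
  have hcA : Commute A c := hcw ▸ (hker hw A).mul_right
    (((Commute.refl A).inv_right).mul_right ((Commute.refl A).inv_right))
  have hBc : B * c * B⁻¹ = c⁻¹ := by
    have e : B * A⁻¹ * B⁻¹ = A * w⁻¹ := by
      rw [show B * A⁻¹ * B⁻¹ = (B * A * B⁻¹)⁻¹ by group, hBA]; group
    have hwi : w⁻¹ = w := inv_eq_of_mul_eq_one_right (by rw [← pow_two, hw2])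
    have hA2 : A * w = w * A := (hker hw A).eq
    calc B * c * B⁻¹ = (B * w * B⁻¹) * ((B * A⁻¹ * B⁻¹) * (B * A⁻¹ * B⁻¹)) := by rw [hcw]; group
      _ = w * (A * w * (A * w)) := by rw [e, hwi, (hker hw B).eq, mul_inv_cancel_right]
      _ = (A * A) * (w * w * w) := by
        rw [hA2, show w * (w * A * (w * A)) = w * w * (A * w) * A by simp only [mul_assoc], hA2,
          show w * w * (w * A) * A = w * w * w * (A * A) by simp only [mul_assoc]]
        exact (((hker hw _).mul_right (hker hw _)).mul_right (hker hw _)).symm.eq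
      _ = c⁻¹ := by
        rw [hcw, ← pow_two w, hw2, one_mul, _root_.mul_inv_rev, _root_.mul_inv_rev, inv_inv, hwi]
  have hBc' : B⁻¹ * c * B = c⁻¹ := by
    have h := congrArg (fun x => B⁻¹ * x * B) hBc
    simp only [mul_assoc, inv_mul_cancel_left, inv_mul_cancel, mul_one] at h
    have h' := congrArg (·⁻¹) h
    simp only [_root_.mul_inv_rev, inv_inv, mul_assoc] at h'
    rw [mul_assoc]
    calc B⁻¹ * (c * B) = (B⁻¹ * (c⁻¹ * B))⁻¹ := by group
      _ = c⁻¹ := by rw [← h]
  have hgen : Subgroup.closure ({A, B} : Set P) ⊔ Subgroup.center P = ⊤ := by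
    refine ProjExt.Stem.closure_sup_center_eq_top g hc ?_
    rw [Set.image_pair, hA, hB, eq_top_iff]
    have ha : ∀ i : ZMod (2 * N), QuaternionGroup.a i ∈ Subgroup.closure
        ({QuaternionGroup.a 1, QuaternionGroup.xa 0} : Set (QuaternionGroup N)) := fun i => by
      obtain ⟨k, rfl⟩ : ∃ k : ℕ, (k : ZMod (2 * N)) = i := ⟨i.val, ZMod.natCast_rightInverse i⟩
      rw [← QuaternionGroup.a_one_pow]
      exact pow_mem (Subgroup.subset_closure (by simp)) k
    rintro (i | i) -
    · exact ha i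
    · rw [show QuaternionGroup.xa i = QuaternionGroup.xa 0 * QuaternionGroup.a i by
        rw [QuaternionGroup.xa_mul_a, zero_add]]
      exact mul_mem (Subgroup.subset_closure (by simp)) (ha i)
  have hle := ProjExt.Stem.commutator_le_zpowers hgen ⟨c, Subgroup.mem_zpowers c, rfl⟩
    (by rw [hcA.eq, mul_inv_cancel_right]; exact Subgroup.mem_zpowers c)
    (by rw [hcA.inv_left.eq, inv_mul_cancel_right]; exact Subgroup.mem_zpowers c)
    (by rw [hBc]; exact inv_mem (Subgroup.mem_zpowers c))
    (by rw [hBc']; exact inv_mem (Subgroup.mem_zpowers c))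
  obtain ⟨j, rfl⟩ := hle hzc
  have hgc : g c = (QuaternionGroup.a 1)⁻¹ * (QuaternionGroup.a 1)⁻¹ := by
    rw [hcw, map_mul, hw, one_mul, map_mul, map_inv, hA]
  have hj : (N : ℤ) ∣ j := by
    have h1 : g (c ^ j) = 1 := hz
    rw [map_zpow, hgc, ← pow_two, inv_pow, _root_.inv_zpow, inv_eq_one, ← zpow_natCast, ← _root_.zpow_mul,
      ← orderOf_dvd_iff_zpow_eq_one, QuaternionGroup.orderOf_a_one] at h1
    push_cast at h1
    exact (mul_dvd_mul_iff_left (two_ne_zero (α := ℤ))).mp h1
  obtain ⟨l, rfl⟩ := hj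
  have hcN : c ^ N = 1 := by
    rw [hcw, ((hker hw (A⁻¹ * A⁻¹)).symm).mul_pow, ← pow_two, ← pow_mul, inv_pow, h2N, inv_one, mul_one]
    obtain ⟨m, rfl⟩ := hN
    rw [← two_mul, pow_mul, hw2, one_pow]
  show c ^ ((N : ℤ) * l) = 1
  rw [_root_.zpow_mul, zpow_natCast, hcN, _root_.one_zpow]

variable {F : Type*} [Field F] [Fintype F]

/-- Elements killed by the transfer never reach the kernel. -/
theorem cross_notMem {p : ℕ} [Fact p.Prime] [CharP F p] {r : ℕ} [hr : Fact r.Prime] (hrp : r ≠ p)
    {H : Type*} [Group H] [Finite H] (τ : H →* SL(2, F)) (hτ : Function.Surjective τ)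
    (hc : τ.ker ≤ Subgroup.center H) (hcard : Nat.card τ.ker = r) {z : H} (hz : z ∈ τ.ker)
    (hmem : z ∈ commutator H ⊔ Subgroup.closure {x : H | x ^ p = 1}) : z = 1 := by
  classical
  by_contra hz1
  let R : Sylow r SL(2, F) := default
  set Pre := (R : Subgroup SL(2, F)).comap τ with hPre
  have hzP : z ∈ Pre := by
    show τ z ∈ (R : Subgroup SL(2, F))
    rw [show τ z = 1 from hz]; exact one_mem _
  have hPG : IsPGroup r Pre :=
    R.isPGroup'.comap_of_ker_isPGroup τ (IsPGroup.of_card (n := 1) (by rw [pow_one]; exact hcard))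
  have hzr : z ^ r = 1 := by
    have := pow_card_eq_one' (x := (⟨z, hz⟩ : τ.ker))
    rw [hcard] at this
    exact congrArg Subtype.val this
  -- the kernel element survives in the abelianisation of `Pre`
  have hnot : (⟨z, hzP⟩ : Pre) ∉ commutator Pre := by
    intro hin
    let g : Pre →* (R : Subgroup SL(2, F)) := τ.subgroupComap _
    have hgs : Function.Surjective g := fun y => by
      obtain ⟨x, hx⟩ := hτ y.1
      exact ⟨⟨x, show τ x ∈ _ from hx ▸ y.2⟩, Subtype.ext hx⟩
    have hgk : g.ker ≤ Subgroup.center Pre := fun v hv => Subgroup.mem_center_iff.mpr fun y =>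
      Subtype.ext (Subgroup.mem_center_iff.mp (hc (congrArg Subtype.val hv : τ (v : H) = 1)) y)
    have hzg : (⟨z, hzP⟩ : Pre) ∈ g.ker := Subtype.ext hz
    by_cases hr2 : r = 2
    · subst hr2
      have hodd : Odd (Fintype.card F) := by
        obtain ⟨n, -, hn⟩ := FiniteField.card F p
        rw [hn]
        exact ((Fact.out : p.Prime).odd_of_ne_two (Ne.symm hrp)).pow
      obtain ⟨k, hk, ⟨e⟩⟩ := Classical.sylow_two_sl2 hodd R
      have : NeZero (2 ^ k) := ⟨by positivity⟩
      have hev : Even (2 ^ k) := (Nat.even_pow).mpr ⟨even_two, by omega⟩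
      have hz' := quaternion_notMem hev (e.toMonoidHom.comp g) (e.surjective.comp hgs)
        (fun v hv => hgk (e.injective (hv.trans (map_one e).symm)))
        (fun v hv => by
          have hv' : (v : H) ∈ τ.ker := congrArg Subtype.val (e.injective (hv.trans (map_one e).symm) : g v = 1)
          have := pow_card_eq_one' (x := (⟨v, hv'⟩ : τ.ker))
          rw [hcard] at this
          exact Subtype.ext (congrArg (fun y : τ.ker => (y : H)) this))
        (z := ⟨z, hzP⟩) (show e (g _) = 1 by rw [show g ⟨z, hzP⟩ = 1 from hzg, map_one]) hin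
      exact hz1 (congrArg Subtype.val hz')
    · have := Classical.isCyclic_sylow_sl2 p hr2 hrp R
      have hcomm := commutative_of_cyclic_center_quotient g hgk
      have : commutator Pre = ⊥ := by
        rw [commutator_def, Subgroup.commutator_eq_bot_iff_le_centralizer]
        exact fun a _ b _ => hcomm b a
      rw [this, Subgroup.mem_bot] at hin
      exact hz1 (congrArg Subtype.val hin)
  set θ : Pre →* Abelianization Pre := Abelianization.of
  have hθ : θ ⟨z, hzP⟩ ≠ 1 := fun h => hnot ((QuotientGroup.eq_one_iff _).mp h)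
  set T := MonoidHom.transfer θ
  have hT : T z = θ ⟨z, hzP⟩ ^ Pre.index := by
    have h := MonoidHom.transfer_eq_pow θ z fun k g₀ _ => by
      rw [mul_assoc, ← (Subgroup.mem_center_iff.mp ((Subgroup.center H).pow_mem (hc hz) k) g₀),
        inv_mul_cancel_left]
    rw [show T z = _ from h, ← map_pow]
    rfl
  have hle : commutator H ⊔ Subgroup.closure {x : H | x ^ p = 1} ≤ T.ker := by
    refine sup_le (Abelianization.commutator_subset_ker _) ((Subgroup.closure_le _).mpr fun x hx => ?_)
    show T x = 1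
    obtain ⟨k, hk⟩ := (hPG.to_quotient (commutator Pre)) (T x)
    have hp' : (T x) ^ p = 1 := by rw [← map_pow, show x ^ p = 1 from hx, map_one]
    rw [← orderOf_eq_one_iff]
    exact Nat.eq_one_of_dvd_coprimes
      (Nat.Coprime.pow_left k ((Nat.coprime_primes hr.out Fact.out).mpr hrp))
      (orderOf_dvd_of_pow_eq_one hk) (orderOf_dvd_of_pow_eq_one hp')
  have h1 : θ ⟨z, hzP⟩ ^ Pre.index = 1 := hT ▸ hle hmem
  have h2 : θ ⟨z, hzP⟩ ^ r = 1 := by
    rw [← map_pow, show (⟨z, hzP⟩ : Pre) ^ r = 1 from Subtype.ext hzr, map_one]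
  refine R.not_dvd_index ?_
  have h3 := orderOf_dvd_of_pow_eq_one h1
  rw [orderOf_eq_prime h2 hθ, hPre, Subgroup.index_comap_of_surjective _ hτ] at h3
  exact h3

end Cfsg.Agent.SLMult
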