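import Mathlib
import Cfsg.Agent.Classical.LinearBasic

/-!
A group over `SL(ι, F)` generated by lifts of transvections satisfying the Steinberg relations maps
injectively as soon as it does so on every rank one piece.
-/

set_option autoImplicit false

namespace Cfsg.Agent.SLMult

open Matrix Cfsg.Agent.Classical
open scoped commutatorElement Pointwise

variable {F : Type*} [Field F] {ι : Type*} [Fintype ι] [DecidableEq ι] {Γ : Type*} [Group Γ]

/-- Lifts of transvections with the Steinberg relations. -/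
structure Sys (σ : Γ →* SpecialLinearGroup ι F) where
  /-- the lifts -/
  X : ι → ι → F → Γ
  map : ∀ {i j : ι} (h : i ≠ j) (a : F), σ (X i j a) = Matrix.SpecialLinearGroup.transvection h a
  add : ∀ {i j : ι}, i ≠ j → ∀ a b, X i j (a + b) = X i j a * X i j b
  comm : ∀ {i j k l : ι}, i ≠ j → k ≠ l → j ≠ k → i ≠ l → ∀ a b, Commute (X i j a) (X k l b)
  rel : ∀ {i j k : ι}, i ≠ j → j ≠ k → i ≠ k → ∀ a b, ⁅X i j a, X j k b⁆ = X i k (a * b)

namespace Sys

variable {σ : Γ →* SpecialLinearGroup ι F} (Φ : Sys σ)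

/-- The action on columns. -/
def act (σ : Γ →* SpecialLinearGroup ι F) (g : Γ) (v : ι → F) : ι → F := (σ g).1 *ᵥ v

/-- Standard basis vector. -/
abbrev e (c : ι) : ι → F := Pi.single c 1

omit [Fintype ι] in
theorem e_apply (c r : ι) : e (F := F) c r = if r = c then 1 else 0 := by simp [e, Pi.single_apply]

theorem act_mul (g h : Γ) (v : ι → F) : act σ (g * h) v = act σ g (act σ h v) := by
  simp [act, Matrix.mulVec_mulVec]

theorem act_one (v : ι → F) : act σ 1 v = v := by simp [act]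

theorem act_smul (g : Γ) (c : F) (v : ι → F) : act σ g (c • v) = c • act σ g v :=
  Matrix.mulVec_smul _ _ _

theorem act_add (g : Γ) (v w : ι → F) : act σ g (v + w) = act σ g v + act σ g w :=
  Matrix.mulVec_add _ _ _

theorem act_inv (g : Γ) (v : ι → F) : act σ g⁻¹ (act σ g v) = v := by
  rw [← act_mul, inv_mul_cancel, act_one]

theorem act_inv' (g : Γ) (v : ι → F) : act σ g (act σ g⁻¹ v) = v := by
  rw [← act_mul, mul_inv_cancel, act_one]

theorem act_X {i j : ι} (h : i ≠ j) (a : F) (v : ι → F) :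
    act σ (Φ.X i j a) v = v + Pi.single i (a * v j) := by
  rw [act, Φ.map h, Matrix.SpecialLinearGroup.transvection_coe, tv_mulVec]

theorem eq_one_of_act {g : Γ} (h : ∀ c, act σ g (e c) = e c) : σ g = 1 :=
  Subtype.ext (Matrix.ext_of_mulVec_single fun c => by
    rw [Matrix.SpecialLinearGroup.coe_one, Matrix.one_mulVec]; exact h c)

theorem zero {i j : ι} (h : i ≠ j) : Φ.X i j 0 = 1 := by
  have := Φ.add h 0 0
  rw [add_zero] at this
  exact left_eq_mul.mp this

theorem inv {i j : ι} (h : i ≠ j) (a : F) : (Φ.X i j a)⁻¹ = Φ.X i j (-a) :=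
  inv_eq_of_mul_eq_one_right (by rw [← Φ.add h, add_neg_cancel, Φ.zero h])

theorem conj_right {i j k : ι} (h1 : i ≠ j) (h2 : j ≠ k) (h3 : i ≠ k) (a b : F) :
    Φ.X i j a * Φ.X j k b * (Φ.X i j a)⁻¹ = Φ.X i k (a * b) * Φ.X j k b := by
  rw [← Φ.rel h1 h2 h3, commutatorElement_def, inv_mul_cancel_right]

theorem conj_left {i j k : ι} (h1 : i ≠ j) (h2 : j ≠ k) (h3 : i ≠ k) (a b : F) :
    Φ.X j k b * Φ.X i j a * (Φ.X j k b)⁻¹ = Φ.X i k (-(a * b)) * Φ.X i j a := by
  rw [← Φ.inv h3, ← Φ.rel h1 h2 h3, commutatorElement_inv, commutatorElement_def,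
    inv_mul_cancel_right]

theorem conj_fix {i j k l : ι} (hij : i ≠ j) (hkl : k ≠ l) (hjk : j ≠ k) (hil : i ≠ l) (a b : F) :
    Φ.X i j a * Φ.X k l b * (Φ.X i j a)⁻¹ = Φ.X k l b :=
  mul_inv_eq_iff_eq_mul.mpr (Φ.comm hij hkl hjk hil a b)

/-- The generators inside an index set. -/
def gens (T : Finset ι) : Set Γ := {x | ∃ i ∈ T, ∃ j ∈ T, i ≠ j ∧ ∃ a, x = Φ.X i j a}

/-- The subgroup generated inside an index set. -/
def E (T : Finset ι) : Subgroup Γ := Subgroup.closure (Φ.gens T)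

/-- Row generators. -/
def R (k : ι) (S : Finset ι) : Subgroup Γ :=
  Subgroup.closure {x | ∃ j ∈ S, ∃ a, x = Φ.X k j a}

/-- Column generators. -/
def C (k : ι) (S : Finset ι) : Subgroup Γ :=
  Subgroup.closure {x | ∃ i ∈ S, ∃ a, x = Φ.X i k a}

theorem X_mem_E {T : Finset ι} {i j : ι} (hi : i ∈ T) (hj : j ∈ T) (h : i ≠ j) (a : F) :
    Φ.X i j a ∈ Φ.E T :=
  Subgroup.subset_closure ⟨i, hi, j, hj, h, a, rfl⟩

theorem X_mem_R {k j : ι} {S : Finset ι} (hj : j ∈ S) (a : F) : Φ.X k j a ∈ Φ.R k S :=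
  Subgroup.subset_closure ⟨j, hj, a, rfl⟩

theorem X_mem_C {k i : ι} {S : Finset ι} (hi : i ∈ S) (a : F) : Φ.X i k a ∈ Φ.C k S :=
  Subgroup.subset_closure ⟨i, hi, a, rfl⟩

theorem supp {T : Finset ι} {g : Γ} (hg : g ∈ Φ.E T) :
    (∀ r ∉ T, ∀ v, act σ g v r = v r) ∧ ∀ c ∉ T, act σ g (e c) = e c := by
  induction hg using Subgroup.closure_induction with
  | mem x hx =>
    obtain ⟨i, hi, j, hj, hij, a, rfl⟩ := hx
    refine ⟨fun r hr v => ?_, fun c hc => ?_⟩
    · rw [Φ.act_X hij, Pi.add_apply, Pi.single_eq_of_ne (ne_of_mem_of_not_mem hi hr).symm, add_zero]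
    · rw [Φ.act_X hij, e_apply, if_neg (ne_of_mem_of_not_mem hj hc), mul_zero, Pi.single_zero,
        add_zero]
  | one => exact ⟨fun r _ v => by rw [act_one], fun c _ => act_one _⟩
  | mul x y _ _ hx hy =>
    exact ⟨fun r hr v => by rw [act_mul, hx.1 r hr, hy.1 r hr],
      fun c hc => by rw [act_mul, hy.2 c hc, hx.2 c hc]⟩
  | inv x _ hx =>
    refine ⟨fun r hr v => ?_, fun c hc => ?_⟩
    · conv_rhs => rw [← act_inv' (σ := σ) x v, hx.1 r hr]
    · conv_lhs => rw [← hx.2 c hc, act_inv]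

theorem R_le {k : ι} {S T : Finset ι} (hk : k ∈ T) (hS : S ⊆ T) (hkS : k ∉ S) : Φ.R k S ≤ Φ.E T :=
  (Subgroup.closure_le _).mpr fun _ ⟨_, hj, a, e⟩ =>
    e ▸ Φ.X_mem_E hk (hS hj) (ne_of_mem_of_not_mem hj hkS).symm a

theorem R_act {k : ι} {S : Finset ι} (hkS : k ∉ S) {g : Γ} (hg : g ∈ Φ.R k S) :
    (∀ r, r ≠ k → ∀ v, act σ g v r = v r) ∧ ∀ c ∉ S, act σ g (e c) = e c := by
  induction hg using Subgroup.closure_induction with
  | mem x hx =>
    obtain ⟨j, hj, a, rfl⟩ := hx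
    have hkj := (ne_of_mem_of_not_mem hj hkS).symm
    refine ⟨fun r hr v => ?_, fun c hc => ?_⟩
    · rw [Φ.act_X hkj, Pi.add_apply, Pi.single_eq_of_ne hr, add_zero]
    · rw [Φ.act_X hkj, e_apply, if_neg (ne_of_mem_of_not_mem hj hc), mul_zero, Pi.single_zero,
        add_zero]
  | one => exact ⟨fun r _ v => by rw [act_one], fun c _ => act_one _⟩
  | mul x y _ _ hx hy =>
    exact ⟨fun r hr v => by rw [act_mul, hx.1 r hr, hy.1 r hr],
      fun c hc => by rw [act_mul, hy.2 c hc, hx.2 c hc]⟩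
  | inv x _ hx =>
    refine ⟨fun r hr v => ?_, fun c hc => ?_⟩
    · conv_rhs => rw [← act_inv' (σ := σ) x v, hx.1 r hr]
    · conv_lhs => rw [← hx.2 c hc, act_inv]

theorem C_act {k : ι} {S : Finset ι} (hkS : k ∉ S) {g : Γ} (hg : g ∈ Φ.C k S) :
    (∀ r ∉ S, ∀ v, act σ g v r = v r) ∧ ∀ c, c ≠ k → act σ g (e c) = e c := by
  induction hg using Subgroup.closure_induction with
  | mem x hx =>
    obtain ⟨i, hi, a, rfl⟩ := hx
    have hik := ne_of_mem_of_not_mem hi hkS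
    refine ⟨fun r hr v => ?_, fun c hc => ?_⟩
    · rw [Φ.act_X hik, Pi.add_apply, Pi.single_eq_of_ne (ne_of_mem_of_not_mem hi hr).symm, add_zero]
    · rw [Φ.act_X hik, e_apply, if_neg hc.symm, mul_zero, Pi.single_zero, add_zero]
  | one => exact ⟨fun r _ v => by rw [act_one], fun c _ => act_one _⟩
  | mul x y _ _ hx hy =>
    exact ⟨fun r hr v => by rw [act_mul, hx.1 r hr, hy.1 r hr],
      fun c hc => by rw [act_mul, hy.2 c hc, hx.2 c hc]⟩
  | inv x _ hx =>
    refine ⟨fun r hr v => ?_, fun c hc => ?_⟩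
    · conv_rhs => rw [← act_inv' (σ := σ) x v, hx.1 r hr]
    · conv_lhs => rw [← hx.2 c hc, act_inv]

theorem R_insert {k j : ι} {S : Finset ι} (hkS : k ∉ insert j S) {g : Γ}
    (hg : g ∈ Φ.R k (insert j S)) : ∃ g' ∈ Φ.R k S, ∃ a, g = g' * Φ.X k j a := by
  have hkj : k ≠ j := fun h => hkS (h ▸ Finset.mem_insert_self _ _)
  induction hg using Subgroup.closure_induction with
  | mem x hx =>
    obtain ⟨j', hj', a, rfl⟩ := hx
    rcases Finset.mem_insert.mp hj' with rfl | h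
    · exact ⟨1, one_mem _, a, (one_mul _).symm⟩
    · exact ⟨_, Φ.X_mem_R h a, 0, by rw [Φ.zero hkj, mul_one]⟩
  | one => exact ⟨1, one_mem _, 0, by rw [Φ.zero hkj, mul_one]⟩
  | mul x y _ _ hx hy =>
    obtain ⟨x', hx', a, rfl⟩ := hx
    obtain ⟨y', hy', b, rfl⟩ := hy
    have hc : Commute (Φ.X k j a) y' := by
      have h1 : Φ.R k S ≤ Subgroup.centralizer {Φ.X k j a} := (Subgroup.closure_le _).mpr
        fun z ⟨i, hi, c, ez⟩ => Subgroup.mem_centralizer_singleton_iff.mpr (ez ▸ (Φ.comm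
          (fun h => hkS (Finset.mem_insert_of_mem (by simpa [h] using hi))) hkj
          (fun h => hkS (Finset.mem_insert_of_mem (by simpa [h] using hi))) hkj c a).eq)
      exact (Subgroup.mem_centralizer_singleton_iff.mp (h1 hy')).symm
    refine ⟨x' * y', mul_mem hx' hy', a + b, ?_⟩
    rw [Φ.add hkj, mul_assoc x', ← mul_assoc _ y', hc.eq]
    group
  | inv x _ hx =>
    obtain ⟨x', hx', a, rfl⟩ := hx
    refine ⟨x'⁻¹, inv_mem hx', -a, ?_⟩
    have hc : Commute (Φ.X k j a) x' := by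
      have h1 : Φ.R k S ≤ Subgroup.centralizer {Φ.X k j a} := (Subgroup.closure_le _).mpr
        fun z ⟨i, hi, c, ez⟩ => Subgroup.mem_centralizer_singleton_iff.mpr (ez ▸ (Φ.comm
          (fun h => hkS (Finset.mem_insert_of_mem (by simpa [h] using hi))) hkj
          (fun h => hkS (Finset.mem_insert_of_mem (by simpa [h] using hi))) hkj c a).eq)
      exact (Subgroup.mem_centralizer_singleton_iff.mp (h1 hx')).symm
    rw [← Φ.inv hkj, ← _root_.mul_inv_rev, hc.eq]

theorem C_insert {k i : ι} {S : Finset ι} (hkS : k ∉ insert i S) {g : Γ}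
    (hg : g ∈ Φ.C k (insert i S)) : ∃ g' ∈ Φ.C k S, ∃ a, g = g' * Φ.X i k a := by
  have hik : i ≠ k := fun h => hkS (h ▸ Finset.mem_insert_self _ _)
  have hcom : ∀ a, ∀ y ∈ Φ.C k S, Commute (Φ.X i k a) y := by
    intro a y hy
    have h1 : Φ.C k S ≤ Subgroup.centralizer {Φ.X i k a} := (Subgroup.closure_le _).mpr
      fun z ⟨j, hj, c, ez⟩ => Subgroup.mem_centralizer_singleton_iff.mpr (ez ▸ (Φ.comm
        (fun h => hkS (Finset.mem_insert_of_mem (by simpa [h] using hj))) hik hik.symm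
        (fun h => hkS (Finset.mem_insert_of_mem (by simpa [h] using hj))) c a).eq)
    exact (Subgroup.mem_centralizer_singleton_iff.mp (h1 hy)).symm
  induction hg using Subgroup.closure_induction with
  | mem x hx =>
    obtain ⟨i', hi', a, rfl⟩ := hx
    rcases Finset.mem_insert.mp hi' with rfl | h
    · exact ⟨1, one_mem _, a, (one_mul _).symm⟩
    · exact ⟨_, Φ.X_mem_C h a, 0, by rw [Φ.zero hik, mul_one]⟩
  | one => exact ⟨1, one_mem _, 0, by rw [Φ.zero hik, mul_one]⟩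
  | mul x y _ _ hx hy =>
    obtain ⟨x', hx', a, rfl⟩ := hx
    obtain ⟨y', hy', b, rfl⟩ := hy
    refine ⟨x' * y', mul_mem hx' hy', a + b, ?_⟩
    rw [Φ.add hik, mul_assoc x', ← mul_assoc _ y', (hcom a y' hy').eq]
    group
  | inv x _ hx =>
    obtain ⟨x', hx', a, rfl⟩ := hx
    refine ⟨x'⁻¹, inv_mem hx', -a, ?_⟩
    rw [← Φ.inv hik, ← _root_.mul_inv_rev, (hcom a x' hx').eq]

theorem R_ker {k : ι} : ∀ {S : Finset ι}, k ∉ S → ∀ {g : Γ}, g ∈ Φ.R k S → σ g = 1 → g = 1 := by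
  intro S
  induction S using Finset.induction_on with
  | empty =>
    intro _ g hg _
    have : Φ.R k ∅ = ⊥ := (Subgroup.closure_eq_bot_iff).mpr (by rintro x ⟨j, hj, -⟩; simp at hj)
    rw [this] at hg
    exact hg
  | @insert j S hjS ih =>
    intro hk g hg h1
    have hkS : k ∉ S := fun h => hk (Finset.mem_insert_of_mem h)
    have hkj : k ≠ j := fun h => hk (h ▸ Finset.mem_insert_self _ _)
    obtain ⟨g', hg', a, rfl⟩ := Φ.R_insert hk hg
    have h2 : act σ (g' * Φ.X k j a) (e j) = e j := by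
      rw [act, h1, Matrix.SpecialLinearGroup.coe_one, Matrix.one_mulVec]
    rw [act_mul, Φ.act_X hkj, e_apply, if_pos rfl, mul_one, act_add, (Φ.R_act hkS hg').2 j hjS,
      show (Pi.single k a : ι → F) = a • e k by ext r; simp [e, Pi.single_apply],
      act_smul, (Φ.R_act hkS hg').2 k hkS, add_eq_left, smul_eq_zero] at h2
    have ha : a = 0 := h2.resolve_right (fun h => by simpa [e] using congrFun h k)
    subst ha
    rw [Φ.zero hkj, mul_one] at h1 ⊢
    exact ih hkS hg' h1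

theorem C_ker {k : ι} : ∀ {S : Finset ι}, k ∉ S → ∀ {g : Γ}, g ∈ Φ.C k S → σ g = 1 → g = 1 := by
  intro S
  induction S using Finset.induction_on with
  | empty =>
    intro _ g hg _
    have : Φ.C k ∅ = ⊥ := (Subgroup.closure_eq_bot_iff).mpr (by rintro x ⟨j, hj, -⟩; simp at hj)
    rw [this] at hg
    exact hg
  | @insert i S hiS ih =>
    intro hk g hg h1
    have hkS : k ∉ S := fun h => hk (Finset.mem_insert_of_mem h)
    have hik : i ≠ k := fun h => hk (h ▸ Finset.mem_insert_self _ _)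
    obtain ⟨g', hg', a, rfl⟩ := Φ.C_insert hk hg
    have h2 : act σ (g' * Φ.X i k a) (e k) i = e k i := by
      rw [act, h1, Matrix.SpecialLinearGroup.coe_one, Matrix.one_mulVec]
    rw [act_mul, (Φ.C_act hkS hg').1 i hiS, Φ.act_X hik] at h2
    have ha : a = 0 := by simpa [e, hik] using h2
    subst ha
    rw [Φ.zero hik, mul_one] at h1 ⊢
    exact ih hkS hg' h1

theorem le_normalizer_of_gens {S W : Set Γ} (hS : ∀ x ∈ S, x⁻¹ ∈ S)
    (h : ∀ x ∈ S, ∀ w ∈ W, x * w * x⁻¹ ∈ Subgroup.closure W) {x : Γ}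
    (hx : x ∈ Subgroup.closure S) {r : Γ} (hr : r ∈ Subgroup.closure W) :
    x * r * x⁻¹ ∈ Subgroup.closure W := by
  have hstep : ∀ x ∈ S, ∀ r ∈ Subgroup.closure W, x * r * x⁻¹ ∈ Subgroup.closure W := fun x hx r hr =>
    (Subgroup.closure_le ((Subgroup.closure W).comap (MulAut.conj x).toMonoidHom)).mpr (h x hx) hr
  revert r
  induction hx using Subgroup.closure_induction'' with
  | mem x hx => exact fun hr => hstep x hx _ hr
  | inv_mem x hx => exact fun hr => hstep _ (hS x hx) _ hr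
  | one => exact fun hr => by simpa using hr
  | mul x y _ _ hx hy =>
    intro r hr
    rw [show x * y * r * (x * y)⁻¹ = x * (y * r * y⁻¹) * x⁻¹ by group]
    exact hx (hy hr)

theorem gens_inv {T : Finset ι} {x : Γ} (hx : x ∈ Φ.gens T) : x⁻¹ ∈ Φ.gens T := by
  obtain ⟨i, hi, j, hj, hij, a, rfl⟩ := hx
  exact ⟨i, hi, j, hj, hij, -a, Φ.inv hij a⟩

theorem normalises_R {T : Finset ι} {k : ι} {x r : Γ} (hx : x ∈ Φ.E (T.erase k))
    (hr : r ∈ Φ.R k (T.erase k)) : x * r * x⁻¹ ∈ Φ.R k (T.erase k) := by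
  refine le_normalizer_of_gens (fun _ => Φ.gens_inv) ?_ hx hr
  rintro _ ⟨u, hu, v, hv, huv, a, rfl⟩ _ ⟨j, hj, b, rfl⟩
  have hku := (Finset.ne_of_mem_erase hu).symm
  have hkv := (Finset.ne_of_mem_erase hv).symm
  by_cases h : u = j
  · subst h
    rw [Φ.conj_left hku huv hkv]
    exact mul_mem (Φ.X_mem_R hv _) (Φ.X_mem_R hj _)
  · rw [Φ.conj_fix huv (Finset.ne_of_mem_erase hj).symm hkv.symm h]
    exact Φ.X_mem_R hj _

theorem normalises_C {T : Finset ι} {k : ι} {x r : Γ} (hx : x ∈ Φ.E (T.erase k))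
    (hr : r ∈ Φ.C k (T.erase k)) : x * r * x⁻¹ ∈ Φ.C k (T.erase k) := by
  refine le_normalizer_of_gens (fun _ => Φ.gens_inv) ?_ hx hr
  rintro _ ⟨u, hu, v, hv, huv, a, rfl⟩ _ ⟨i, hi, b, rfl⟩
  by_cases h : v = i
  · subst h
    rw [Φ.conj_right huv (Finset.ne_of_mem_erase hi) (Finset.ne_of_mem_erase hu)]
    exact mul_mem (Φ.X_mem_C hu _) (Φ.X_mem_C hi _)
  · rw [Φ.conj_fix huv (Finset.ne_of_mem_erase hi) h (Finset.ne_of_mem_erase hu)]
    exact Φ.X_mem_C hi _

/-- The stabiliser candidate. -/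
def P (T : Finset ι) (k : ι) : Subgroup Γ := Φ.E (T.erase k) ⊔ Φ.R k (T.erase k)

theorem mem_P {T : Finset ι} {k : ι} {g : Γ} (hg : g ∈ Φ.P T k) :
    ∃ x ∈ Φ.E (T.erase k), ∃ r ∈ Φ.R k (T.erase k), g = x * r := by
  have hle : Φ.E (T.erase k) ≤ Subgroup.normalizer (Φ.R k (T.erase k) : Set Γ) := fun x hx => by
    refine Subgroup.mem_normalizer_iff.mpr fun r => ⟨Φ.normalises_R hx, fun hr => ?_⟩
    simpa [mul_assoc] using Φ.normalises_R (inv_mem hx) hr
  have hg' : g ∈ (↑(Φ.E (T.erase k)) * ↑(Φ.R k (T.erase k)) : Set Γ) := by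
    rw [← Subgroup.coe_mul_of_left_le_normalizer_right _ _ hle]; exact hg
  obtain ⟨x, hx, r, hr, e⟩ := hg'
  exact ⟨x, hx, r, hr, e.symm⟩

theorem P_act {T : Finset ι} {k : ι} {g : Γ} (hg : g ∈ Φ.P T k) : act σ g (e k) = e k := by
  obtain ⟨x, hx, r, hr, rfl⟩ := Φ.mem_P hg
  rw [act_mul, (Φ.R_act (Finset.notMem_erase k T) hr).2 k (Finset.notMem_erase k T),
    (Φ.supp hx).2 k (Finset.notMem_erase k T)]

theorem P_inj {T : Finset ι} {k : ι}
    (h : ∀ g ∈ Φ.E (T.erase k), σ g = 1 → g = 1) {g : Γ} (hg : g ∈ Φ.P T k) (h1 : σ g = 1) :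
    g = 1 := by
  obtain ⟨x, hx, r, hr, rfl⟩ := Φ.mem_P hg
  have hk := Finset.notMem_erase k T
  have hr1 : σ r = 1 := by
    refine eq_one_of_act fun c => funext fun d => ?_
    by_cases hd : d = k
    · subst hd
      rw [← (Φ.supp hx).1 _ hk (act σ r (e c)), ← act_mul, act, h1,
        Matrix.SpecialLinearGroup.coe_one, Matrix.one_mulVec]
    · exact (Φ.R_act hk hr).1 d hd _
  rw [Φ.R_ker hk hr hr1, mul_one] at h1 ⊢
  exact h x hx h1

section Step

variable {T : Finset ι} {k m : ι} (hk : k ∈ T) (hm : m ∈ T) (hmk : m ≠ k)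

/-- The double coset, as a predicate. -/
def Cos (T : Finset ι) (k m : ι) (g : Γ) : Prop :=
  ∃ x ∈ Φ.E (T.erase k), ∃ f ∈ Φ.E {m, k}, ∃ p ∈ Φ.P T k, g = x * f * p

theorem cos_left {x g : Γ} (hx : x ∈ Φ.E (T.erase k)) (hg : Φ.Cos T k m g) :
    Φ.Cos T k m (x * g) := by
  obtain ⟨y, hy, f, hf, p, hp, rfl⟩ := hg
  exact ⟨x * y, mul_mem hx hy, f, hf, p, hp, by group⟩

theorem cos_right {g p : Γ} (hp : p ∈ Φ.P T k) (hg : Φ.Cos T k m g) :
    Φ.Cos T k m (g * p) := by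
  obtain ⟨y, hy, f, hf, q, hq, rfl⟩ := hg
  exact ⟨y, hy, f, hf, q * p, mul_mem hq hp, by group⟩

theorem cos_mid {f : Γ} (hf : f ∈ Φ.E {m, k}) : Φ.Cos T k m f :=
  ⟨1, one_mem _, f, hf, 1, one_mem _, by group⟩

theorem gens_pair {m k : ι} {x : Γ} (hx : x ∈ Φ.gens {m, k}) :
    (m ≠ k ∧ ∃ a, x = Φ.X m k a) ∨ (k ≠ m ∧ ∃ a, x = Φ.X k m a) := by
  obtain ⟨i, hi, j, hj, hij, a, rfl⟩ := hx
  simp only [Finset.mem_insert, Finset.mem_singleton] at hi hj
  rcases hi with rfl | rfl <;> rcases hj with rfl | rfl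
  · exact absurd rfl hij
  · exact Or.inl ⟨hij, a, rfl⟩
  · exact Or.inr ⟨hij, a, rfl⟩
  · exact absurd rfl hij

include hmk in
theorem rowPair {j : ι} (hjm : j ≠ m) (hjk : j ≠ k) {f : Γ} (hf : f ∈ Φ.E {m, k}) (x y : F) :
    ∃ x' y', f * (Φ.X k j x * Φ.X m j y) * f⁻¹ = Φ.X k j x' * Φ.X m j y' := by
  revert x y
  have hcc : ∀ b c, Φ.X m j b * Φ.X k j c = Φ.X k j c * Φ.X m j b := fun b c =>
    (Φ.comm hjm.symm hjk.symm hjk hjm.symm b c).eq
  induction hf using Subgroup.closure_induction'' with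
  | one => exact fun x y => ⟨x, y, by group⟩
  | mul a b _ _ ha hb =>
    intro x y
    obtain ⟨x1, y1, h1⟩ := hb x y
    obtain ⟨x2, y2, h2⟩ := ha x1 y1
    refine ⟨x2, y2, ?_⟩
    rw [show a * b * (Φ.X k j x * Φ.X m j y) * (a * b)⁻¹ =
      a * (b * (Φ.X k j x * Φ.X m j y) * b⁻¹) * a⁻¹ by group, h1, h2]
  | mem z hz =>
    rcases Φ.gens_pair hz with ⟨h, c, rfl⟩ | ⟨h, c, rfl⟩ <;> intro x y
    · refine ⟨x, c * x + y, ?_⟩
      rw [← conj_mul, Φ.conj_right h hjk.symm hjm.symm, Φ.conj_fix h hjm.symm hmk.symm hjm.symm,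
        hcc, mul_assoc, ← Φ.add hjm.symm]
    · refine ⟨x + c * y, y, ?_⟩
      rw [← conj_mul, Φ.conj_fix h hjk.symm hmk hjk.symm, Φ.conj_right h hjm.symm hjk.symm,
        ← mul_assoc, ← Φ.add hjk.symm]
  | inv_mem z hz =>
    rcases Φ.gens_pair hz with ⟨h, c, rfl⟩ | ⟨h, c, rfl⟩ <;> intro x y <;> rw [Φ.inv h]
    · refine ⟨x, -c * x + y, ?_⟩
      rw [← conj_mul, Φ.conj_right h hjk.symm hjm.symm, Φ.conj_fix h hjm.symm hmk.symm hjm.symm,
        hcc, mul_assoc, ← Φ.add hjm.symm]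
    · refine ⟨x + -c * y, y, ?_⟩
      rw [← conj_mul, Φ.conj_fix h hjk.symm hmk hjk.symm, Φ.conj_right h hjm.symm hjk.symm,
        ← mul_assoc, ← Φ.add hjk.symm]

include hmk in
theorem colPair {i : ι} (him : i ≠ m) (hik : i ≠ k) {f : Γ} (hf : f ∈ Φ.E {m, k}) (x y : F) :
    ∃ x' y', f * (Φ.X i k x * Φ.X i m y) * f⁻¹ = Φ.X i k x' * Φ.X i m y' := by
  revert x y
  have hcc : ∀ b c, Φ.X i m b * Φ.X i k c = Φ.X i k c * Φ.X i m b := fun b c =>
    (Φ.comm him hik him.symm hik b c).eq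
  induction hf using Subgroup.closure_induction'' with
  | one => exact fun x y => ⟨x, y, by group⟩
  | mul a b _ _ ha hb =>
    intro x y
    obtain ⟨x1, y1, h1⟩ := hb x y
    obtain ⟨x2, y2, h2⟩ := ha x1 y1
    refine ⟨x2, y2, ?_⟩
    rw [show a * b * (Φ.X i k x * Φ.X i m y) * (a * b)⁻¹ =
      a * (b * (Φ.X i k x * Φ.X i m y) * b⁻¹) * a⁻¹ by group, h1, h2]
  | mem z hz =>
    rcases Φ.gens_pair hz with ⟨h, c, rfl⟩ | ⟨h, c, rfl⟩ <;> intro x y
    · refine ⟨x + -(y * c), y, ?_⟩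
      rw [← conj_mul, Φ.conj_fix h hik hik.symm (Ne.symm hmk).symm, Φ.conj_left him h hik,
        ← mul_assoc, ← Φ.add hik]
    · refine ⟨x, -(x * c) + y, ?_⟩
      rw [← conj_mul, Φ.conj_left hik h him, Φ.conj_fix h him him.symm h, hcc, mul_assoc,
        ← Φ.add him]
  | inv_mem z hz =>
    rcases Φ.gens_pair hz with ⟨h, c, rfl⟩ | ⟨h, c, rfl⟩ <;> intro x y <;> rw [Φ.inv h]
    · refine ⟨x + -(y * -c), y, ?_⟩
      rw [← conj_mul, Φ.conj_fix h hik hik.symm (Ne.symm hmk).symm, Φ.conj_left him h hik,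
        ← mul_assoc, ← Φ.add hik]
    · refine ⟨x, -(x * -c) + y, ?_⟩
      rw [← conj_mul, Φ.conj_left hik h him, Φ.conj_fix h him him.symm h, hcc, mul_assoc,
        ← Φ.add him]

theorem act_pair {i : ι} (him : i ≠ m) (hik : i ≠ k) (x y : F) (v : ι → F) :
    act σ (Φ.X i k x * Φ.X i m y) v = v + Pi.single i (x * v k + y * v m) := by
  rw [act_mul, Φ.act_X him, Φ.act_X hik, Pi.add_apply, Pi.single_eq_of_ne hik.symm, add_zero,
    add_assoc, ← Pi.single_add, add_comm (y * v m)]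

include hmk hm in
theorem conj_mem_P {i : ι} (hi : i ∈ T) (him : i ≠ m) (hik : i ≠ k) {f : Γ} (hf : f ∈ Φ.E {m, k})
    {x y : F} (hfix : x * act σ f (e k) k + y * act σ f (e k) m = 0) :
    f⁻¹ * (Φ.X i k x * Φ.X i m y) * f ∈ Φ.P T k := by
  obtain ⟨x', y', h⟩ := Φ.colPair hmk him hik (inv_mem hf) x y
  rw [inv_inv] at h
  have h1 := congrArg (fun g => act σ g (e k) i) h
  simp only [act_mul _ f] at h1
  rw [act_mul, Φ.act_pair him hik, hfix, Pi.single_zero, add_zero, act_inv,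
    Φ.act_pair him hik] at h1
  have hx' : x' = 0 := by simpa [e, hik, hmk, eq_comm] using h1
  rw [h, hx', Φ.zero hik, one_mul]
  exact Subgroup.mem_sup_left (Φ.X_mem_E (Finset.mem_erase.mpr ⟨hik, hi⟩)
    (Finset.mem_erase.mpr ⟨hmk, hm⟩) him _)

include hmk hm in
theorem pair_fix {j : ι} (hj : j ∈ T) (hjm : j ≠ m) (hjk : j ≠ k) {f : Γ} (hf : f ∈ Φ.E {m, k})
    (x y : F) : f⁻¹ * (Φ.X k j x * Φ.X m j y) * f ∈ Φ.P T k := by
  obtain ⟨x', y', h⟩ := Φ.rowPair hmk hjm hjk (inv_mem hf) x y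
  rw [inv_inv] at h
  rw [h]
  exact mul_mem (Subgroup.mem_sup_right (Φ.X_mem_R (Finset.mem_erase.mpr ⟨hjk, hj⟩) _))
    (Subgroup.mem_sup_left (Φ.X_mem_E (Finset.mem_erase.mpr ⟨hmk, hm⟩)
      (Finset.mem_erase.mpr ⟨hjk, hj⟩) hjm.symm _))

include hmk hk hm in
theorem cos_row {r f : Γ} (hr : r ∈ Φ.R k (T.erase k)) (hf : f ∈ Φ.E {m, k}) :
    Φ.Cos T k m (r * f) := by
  rw [← Finset.insert_erase (Finset.mem_erase.mpr ⟨hmk, hm⟩)] at hr
  obtain ⟨r0, hr0, a, rfl⟩ := Φ.R_insert (by simp [hmk.symm]) hr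
  have hf' : Φ.X k m a * f ∈ Φ.E {m, k} :=
    mul_mem (Φ.X_mem_E (by simp) (by simp) hmk.symm a) hf
  have h : (Φ.X k m a * f)⁻¹ * r0 * (Φ.X k m a * f) ∈ Φ.P T k := by
    have := (Subgroup.closure_le ((Φ.P T k).comap (MulAut.conj (Φ.X k m a * f)⁻¹).toMonoidHom)).mpr
      ?_ hr0
    · simpa [mul_assoc] using this
    rintro _ ⟨j, hj, b, rfl⟩
    simp only [Finset.mem_erase] at hj
    have := Φ.pair_fix hm hmk hj.2.2 hj.1 hj.2.1 hf' b 0
    simpa [Φ.zero hj.1.symm, mul_assoc] using this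
  have := Φ.cos_right h (Φ.cos_mid (T := T) hf')
  convert this using 1
  group

include hmk hk hm in
theorem cos_col_main {S : Finset ι} (hS : ∀ i ∈ S, i ∈ T ∧ i ≠ m ∧ i ≠ k) {v f : Γ}
    (hv : v ∈ Φ.C k S) (hf : f ∈ Φ.E {m, k}) (h1 : act σ f (e k) m ≠ 0) :
    Φ.Cos T k m (v * f) := by
  suffices h : ∃ c ∈ Φ.C m S, ∃ p ∈ Φ.P T k, v * f = c * f * p by
    obtain ⟨c, hc, p, hp, e⟩ := h
    refine ⟨c, ?_, f, hf, p, hp, e⟩
    exact (Subgroup.closure_le _).mpr (by
      rintro _ ⟨i, hi, a, rfl⟩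
      exact Φ.X_mem_E (Finset.mem_erase.mpr ⟨(hS i hi).2.2, (hS i hi).1⟩)
        (Finset.mem_erase.mpr ⟨hmk, hm⟩) (hS i hi).2.1 a) hc
  have hcom : ∀ c ∈ Φ.C m S, ∀ w ∈ Φ.C k S, w * c = c * w := by
    intro c hc w hw
    induction hw using Subgroup.closure_induction with
    | mem z hz =>
      obtain ⟨i, hi, a, rfl⟩ := hz
      induction hc using Subgroup.closure_induction with
      | mem z hz =>
        obtain ⟨u, hu, b, rfl⟩ := hz
        exact (Φ.comm (hS i hi).2.2 (hS u hu).2.1 (hS u hu).2.2.symm (hS i hi).2.1 a b).eq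
      | one => simp
      | mul p q _ _ hp hq => exact (Commute.mul_right hp hq).eq
      | inv p _ hp => exact (Commute.inv_right hp).eq
    | one => simp
    | mul p q _ _ hp hq => exact (Commute.mul_left hp hq).eq
    | inv p _ hp => exact (Commute.inv_left hp).eq
  have hgen : ∀ i ∈ S, ∀ a, ∃ c ∈ Φ.C m S, ∃ p ∈ Φ.P T k, Φ.X i k a * f = c * f * p := by
    intro i hi a
    obtain ⟨hiT, him, hik⟩ := hS i hi
    set b := -(a * act σ f (e k) k / act σ f (e k) m) with hb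
    refine ⟨Φ.X i m (-b), Φ.X_mem_C hi _, _,
      Φ.conj_mem_P hm hmk hiT him hik hf (x := a) (y := b) ?_, ?_⟩
    · rw [hb]; field_simp; ring
    · have hc := (Φ.comm hik him hik.symm him a b).eq
      rw [hc, ← Φ.inv him b]
      group
  induction hv using Subgroup.closure_induction'' with
  | mem z hz =>
    obtain ⟨i, hi, a, rfl⟩ := hz
    exact hgen i hi a
  | inv_mem z hz =>
    obtain ⟨i, hi, a, rfl⟩ := hz
    rw [Φ.inv (hS i hi).2.2]
    exact hgen i hi (-a)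
  | one => exact ⟨1, one_mem _, 1, one_mem _, by group⟩
  | mul x y hx hy ihx ihy =>
    obtain ⟨c, hc, p, hp, hcp⟩ := ihy
    obtain ⟨d, hd, q, hq, hdq⟩ := ihx
    refine ⟨c * d, mul_mem hc hd, q * p, mul_mem hq hp, ?_⟩
    rw [mul_assoc x, hcp, ← mul_assoc x, ← mul_assoc x, hcom c hc x hx, mul_assoc c x, hdq]
    group

include hmk hk hm in
theorem cos_col_low : ∀ {S : Finset ι}, (∀ i ∈ S, i ∈ T ∧ i ≠ m ∧ i ≠ k) → ∀ {v f : Γ},
    v ∈ Φ.C k S → f ∈ Φ.E {m, k} → Φ.Cos T k m (v * f) := by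
  intro S
  induction S using Finset.induction_on with
  | empty =>
    intro _ v f hv hf
    have : Φ.C k ∅ = ⊥ := (Subgroup.closure_eq_bot_iff).mpr (by rintro x ⟨j, hj, -⟩; simp at hj)
    rw [this, Subgroup.mem_bot] at hv
    rw [hv, one_mul]
    exact Φ.cos_mid hf
  | @insert i S hiS ih =>
    intro hS v f hv hf
    obtain ⟨hiT, him, hik⟩ := hS i (Finset.mem_insert_self _ _)
    have hS' := fun u hu => hS u (Finset.mem_insert_of_mem hu)
    by_cases h1 : act σ f (e k) m = 0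
    swap
    · exact Φ.cos_col_main hk hm hmk hS hv hf h1
    have hkS : k ∉ insert i S := fun h => (hS k h).2.2 rfl
    obtain ⟨w, hw, a, rfl⟩ := Φ.C_insert hkS hv
    by_cases ha : a = 0
    · rw [ha, Φ.zero hik, mul_one]
      exact ih hS' hw hf
    -- move the Weyl element of the pair `i, m` across
    set e0 := Φ.X m i (-1) * Φ.X i m 1 with he0
    have he0E : e0 ∈ Φ.E (T.erase k) :=
      mul_mem (Φ.X_mem_E (Finset.mem_erase.mpr ⟨hmk, hm⟩) (Finset.mem_erase.mpr ⟨hik, hiT⟩)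
        him.symm _) (Φ.X_mem_E (Finset.mem_erase.mpr ⟨hik, hiT⟩) (Finset.mem_erase.mpr ⟨hmk, hm⟩)
        him _)
    have hswap : e0 * Φ.X m k a * e0⁻¹ = Φ.X i k a := by
      rw [he0, show ∀ p q r : Γ, p * q * r * (p * q)⁻¹ = p * (q * r * q⁻¹) * p⁻¹ from
        fun p q r => by group, Φ.conj_right him hmk hik, ← conj_mul,
        Φ.conj_right him.symm hik hmk, Φ.conj_fix him.symm hmk him hmk, one_mul,
        (Φ.comm hmk hik hik.symm hmk _ _).eq, mul_assoc, ← Φ.add hmk, neg_one_mul, neg_add_cancel,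
        Φ.zero hmk, mul_one]
    have hwc : Commute w e0 := by
      have h : Φ.C k S ≤ Subgroup.centralizer {e0} := (Subgroup.closure_le _).mpr (by
        rintro _ ⟨u, hu, b, rfl⟩
        obtain ⟨-, hum, huk⟩ := hS' u hu
        have hui : u ≠ i := ne_of_mem_of_not_mem hu hiS
        rw [SetLike.mem_coe, Subgroup.mem_centralizer_singleton_iff]
        exact ((Φ.comm huk him.symm hmk.symm hui b _).mul_right
          (Φ.comm huk him hik.symm hum b _)).eq)
      exact Subgroup.mem_centralizer_singleton_iff.mp (h hw)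
    have hp : f⁻¹ * e0⁻¹ * f ∈ Φ.P T k := by
      have h2 : f⁻¹ * Φ.X i m (-1) * f ∈ Φ.P T k := by
        have := Φ.conj_mem_P hm hmk hiT him hik hf (x := 0) (y := -1) (by rw [h1]; ring)
        rwa [Φ.zero hik, one_mul] at this
      have h3 : f⁻¹ * Φ.X m i 1 * f ∈ Φ.P T k := by
        have := Φ.pair_fix hm hmk hiT him hik hf 0 1
        rwa [Φ.zero hik.symm, one_mul] at this
      convert mul_mem h2 h3 using 1
      rw [he0, _root_.mul_inv_rev, Φ.inv him, Φ.inv him.symm, neg_neg]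
      group
    have hf' : Φ.X m k a * f ∈ Φ.E {m, k} :=
      mul_mem (Φ.X_mem_E (by simp) (by simp) hmk a) hf
    have hne : act σ (Φ.X m k a * f) (e k) m ≠ 0 := by
      rw [act_mul, Φ.act_X hmk, Pi.add_apply, Pi.single_eq_same, h1, zero_add, mul_ne_zero_iff]
      refine ⟨ha, fun h0 => ?_⟩
      have hz : act σ f (e k) = 0 := funext fun r => by
        by_cases hrm : r = m
        · exact hrm ▸ h1
        by_cases hrk : r = k
        · exact hrk ▸ h0
        rw [(Φ.supp hf).1 r (by simp [hrm, hrk]), e_apply, if_neg hrk]; rfl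
      have := congrArg (act σ f⁻¹) hz
      rw [act_inv] at this
      simpa [e, act] using congrFun this k
    have := Φ.cos_left he0E (Φ.cos_right hp (Φ.cos_col_main hk hm hmk hS' hw hf' hne))
    convert this using 1
    rw [← hswap]
    calc w * (e0 * Φ.X m k a * e0⁻¹) * f = (w * e0) * Φ.X m k a * e0⁻¹ * f := by group
      _ = (e0 * w) * Φ.X m k a * e0⁻¹ * f := by rw [hwc.eq]
      _ = _ := by group

include hmk hk hm in
theorem cos_col {v f : Γ} (hv : v ∈ Φ.C k (T.erase k)) (hf : f ∈ Φ.E {m, k}) :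
    Φ.Cos T k m (v * f) := by
  rw [← Finset.insert_erase (Finset.mem_erase.mpr ⟨hmk, hm⟩)] at hv
  obtain ⟨v0, hv0, a, rfl⟩ := Φ.C_insert (by simp [hmk.symm]) hv
  rw [mul_assoc]
  refine Φ.cos_col_low hk hm hmk (fun i hi => ?_) hv0
    (mul_mem (Φ.X_mem_E (by simp) (by simp) hmk a) hf)
  simp only [Finset.mem_erase] at hi
  exact ⟨hi.2.2, hi.1, hi.2.1⟩

include hmk hk hm in
theorem cos_all {g : Γ} (hg : g ∈ Φ.E T) : Φ.Cos T k m g := by
  suffices h : ∀ y, Φ.Cos T k m y → Φ.Cos T k m (g * y) by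
    simpa using h 1 (Φ.cos_mid (one_mem _))
  induction hg using Subgroup.closure_induction'' with
  | one => exact fun y hy => by simpa using hy
  | mul a b _ _ ha hb => exact fun y hy => by rw [mul_assoc]; exact ha _ (hb _ hy)
  | inv_mem z hz => exact fun y hy => this _ (Φ.gens_inv hz) y hy
  | mem z hz => exact fun y hy => this z hz y hy
where
  this : ∀ z ∈ Φ.gens T, ∀ y, Φ.Cos T k m y → Φ.Cos T k m (z * y) := by
    rintro _ ⟨i, hi, j, hj, hij, a, rfl⟩ y ⟨x, hx, f, hf, p, hp, rfl⟩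
    by_cases hik : i = k
    · subst hik
      have hr := Φ.normalises_R (inv_mem hx) (Φ.X_mem_R (Finset.mem_erase.mpr ⟨hij.symm, hj⟩) a)
      have := Φ.cos_left hx (Φ.cos_right hp (Φ.cos_row hk hm hmk hr hf))
      convert this using 1
      group
    by_cases hjk : j = k
    · subst hjk
      have hr := Φ.normalises_C (inv_mem hx) (Φ.X_mem_C (Finset.mem_erase.mpr ⟨hij, hi⟩) a)
      have := Φ.cos_left hx (Φ.cos_right hp (Φ.cos_col hk hm hmk hr hf))
      convert this using 1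
      group
    exact Φ.cos_left (Φ.X_mem_E (Finset.mem_erase.mpr ⟨hik, hi⟩) (Finset.mem_erase.mpr ⟨hjk, hj⟩)
      hij a) ⟨x, hx, f, hf, p, hp, rfl⟩

theorem block_det {g : Γ} (hg : g ∈ Φ.E {m, k}) (hmk' : m ≠ k) :
    act σ g (e m) m * act σ g (e k) k - act σ g (e k) m * act σ g (e m) k = 1 := by
  induction hg using Subgroup.closure_induction'' with
  | one => simp [act_one, e, hmk', hmk'.symm]
  | mul a b ha hb iha ihb =>
    have hdec : ∀ c, (c = m ∨ c = k) → act σ b (e c) =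
        act σ b (e c) m • e m + act σ b (e c) k • e k := by
      intro c hc
      funext r
      by_cases hrm : r = m
      · subst hrm; simp [e, hmk']
      by_cases hrk : r = k
      · subst hrk; simp [e, hrm]
      rw [(Φ.supp hb).1 r (by simp [hrm, hrk])]
      rcases hc with rfl | rfl <;> simp [e, hrm, hrk]
    rw [act_mul, act_mul, hdec m (Or.inl rfl), hdec k (Or.inr rfl)]
    simp only [act_add, act_smul, Pi.add_apply, Pi.smul_apply, smul_eq_mul]
    linear_combination (act σ b (e m) m * act σ b (e k) k - act σ b (e k) m * act σ b (e m) k) * iha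
      + ihb
  | mem z hz =>
    rcases Φ.gens_pair hz with ⟨h, c, rfl⟩ | ⟨h, c, rfl⟩ <;>
      simp [Φ.act_X h, e, h, h.symm]
  | inv_mem z hz =>
    rcases Φ.gens_pair hz with ⟨h, c, rfl⟩ | ⟨h, c, rfl⟩ <;>
      simp [Φ.inv h, Φ.act_X h, e, h, h.symm]

include hmk hk hm in
theorem stab (h2 : ∀ g ∈ Φ.E {m, k}, σ g = 1 → g = 1) {g : Γ} (hg : g ∈ Φ.E T)
    (hfix : act σ g (e k) = e k) : g ∈ Φ.P T k := by
  obtain ⟨x, hx, f, hf, p, hp, rfl⟩ := Φ.cos_all hk hm hmk hg
  rw [act_mul, Φ.P_act hp, act_mul] at hfix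
  have hxk := (Φ.supp hx).2 k (Finset.notMem_erase k T)
  have hfk : act σ f (e k) = e k := by
    rw [← act_inv (σ := σ) x (act σ f (e k)), hfix]
    conv_lhs => rw [← hxk, act_inv]
  have hdet := Φ.block_det hf hmk
  have hs : act σ f (e m) m = 1 := by simpa [hfk, e, hmk] using hdet
  set c := act σ f (e m) k
  set f' := Φ.X k m (-c) * f
  have hf1 : σ f' = 1 := by
    refine eq_one_of_act fun d => funext fun r => ?_
    rw [act_mul, Φ.act_X hmk.symm, Pi.add_apply, Pi.single_apply]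
    by_cases hdm : d = m
    · subst hdm
      by_cases hrk : r = k
      · subst hrk
        rw [if_pos rfl, hs, e_apply, if_neg hmk.symm]; ring
      by_cases hrm : r = d
      · subst hrm
        rw [if_neg hrk, add_zero, hs, e_apply, if_pos rfl]
      rw [if_neg hrk, add_zero, (Φ.supp hf).1 r (by simp [hrm, hrk])]
    · have hd : act σ f (e d) = e d := by
        by_cases hdk : d = k
        · exact hdk ▸ hfk
        · exact (Φ.supp hf).2 d (by simp [hdm, hdk])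
      rw [hd]
      have : e (F := F) d m = 0 := by rw [e_apply, if_neg (Ne.symm hdm)]
      rw [this, mul_zero]
      simp
  have hfe : f = Φ.X k m c := by
    have h := h2 f' (mul_mem (Φ.X_mem_E (by simp) (by simp) hmk.symm _) hf) hf1
    rwa [show f' = (Φ.X k m c)⁻¹ * f by rw [Φ.inv hmk.symm], inv_mul_eq_one, eq_comm] at h
  exact mul_mem (mul_mem (Subgroup.mem_sup_left hx) (hfe ▸ Subgroup.mem_sup_right
    (Φ.X_mem_R (Finset.mem_erase.mpr ⟨hmk, hm⟩) _))) hp

end Step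

/-- Injectivity from the rank one pieces. -/
theorem inj_E (h2 : ∀ i j : ι, i ≠ j → ∀ g ∈ Φ.E {i, j}, σ g = 1 → g = 1) :
    ∀ T : Finset ι, ∀ g ∈ Φ.E T, σ g = 1 → g = 1 := by
  intro T
  induction T using Finset.strongInduction with
  | _ T ih =>
    intro g hg h1
    by_cases hT : ∃ k ∈ T, ∃ m ∈ T, m ≠ k
    · obtain ⟨k, hk, m, hm, hmk⟩ := hT
      have hfix : act σ g (e k) = e k := by
        rw [act, h1, Matrix.SpecialLinearGroup.coe_one, Matrix.one_mulVec]
      exact Φ.P_inj (ih _ (Finset.erase_ssubset hk)) (Φ.stab hk hm hmk (h2 m k hmk) hg hfix) h1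
    · push Not at hT
      have : Φ.E T = ⊥ := (Subgroup.closure_eq_bot_iff).mpr (by
        rintro x ⟨i, hi, j, hj, hij, -⟩
        exact absurd (hT j hj i hi) hij)
      rw [this] at hg
      exact hg

/-- Injectivity on the unipotent upper part needs no rank one input. -/
theorem inj_upper [LinearOrder ι] : ∀ T : Finset ι, ∀ g ∈ Subgroup.closure
    {x | ∃ i ∈ T, ∃ j ∈ T, i < j ∧ ∃ a, x = Φ.X i j a}, σ g = 1 → g = 1 := by
  intro T
  induction T using Finset.induction_on_max with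
  | empty =>
    intro g hg _
    rw [(Subgroup.closure_eq_bot_iff).mpr (by rintro x ⟨i, hi, -⟩; simp at hi)] at hg
    exact hg
  | insert k S hlt ih =>
    intro g hg h1
    set U := Subgroup.closure {x | ∃ i ∈ S, ∃ j ∈ S, i < j ∧ ∃ a, x = Φ.X i j a}
    have hUE : U ≤ Φ.E S := (Subgroup.closure_le _).mpr (by
      rintro _ ⟨i, hi, j, hj, hij, a, rfl⟩
      exact Φ.X_mem_E hi hj hij.ne a)
    have hkS : k ∉ S := fun h => (hlt k h).false
    have her : (insert k S).erase k = S := Finset.erase_insert hkS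
    have hnorm : ∀ {u v}, u ∈ U → v ∈ Φ.C k S → u * v * u⁻¹ ∈ Φ.C k S := fun hu hv => by
      have := Φ.normalises_C (T := insert k S) (k := k) (x := _) (r := _)
        (by rw [her]; exact hUE hu) (by rw [her]; exact hv)
      rwa [her] at this
    have hdec : ∃ v ∈ Φ.C k S, ∃ u ∈ U, g = v * u := by
      clear h1
      induction hg using Subgroup.closure_induction with
      | mem x hx =>
        obtain ⟨i, hi, j, hj, hij, a, rfl⟩ := hx
        have hiS : i ∈ S := (Finset.mem_insert.mp hi).resolve_left (by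
          rintro rfl
          rcases Finset.mem_insert.mp hj with rfl | h
          · exact hij.false
          · exact (hij.trans (hlt j h)).false)
        rcases Finset.mem_insert.mp hj with rfl | h
        · exact ⟨_, Φ.X_mem_C hiS a, 1, one_mem _, (mul_one _).symm⟩
        · exact ⟨1, one_mem _, _, Subgroup.subset_closure ⟨i, hiS, j, h, hij, a, rfl⟩,
            (one_mul _).symm⟩
      | one => exact ⟨1, one_mem _, 1, one_mem _, (mul_one 1).symm⟩
      | mul x y _ _ hx hy =>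
        obtain ⟨v, hv, u, hu, rfl⟩ := hx
        obtain ⟨w, hw, s, hs, rfl⟩ := hy
        exact ⟨v * (u * w * u⁻¹), mul_mem hv (hnorm hu hw), u * s, mul_mem hu hs, by group⟩
      | inv x _ hx =>
        obtain ⟨v, hv, u, hu, rfl⟩ := hx
        exact ⟨u⁻¹ * v⁻¹ * u⁻¹⁻¹, hnorm (inv_mem hu) (inv_mem hv), u⁻¹, inv_mem hu, by group⟩
    obtain ⟨v, hv, u, hu, rfl⟩ := hdec
    have hv1 : σ v = 1 := eq_one_of_act fun c => by
      by_cases hc : c = k
      · subst hc
        conv_lhs => rw [← (Φ.supp (hUE hu)).2 c hkS, ← act_mul]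
        rw [act, h1, Matrix.SpecialLinearGroup.coe_one, Matrix.one_mulVec]
      · exact (Φ.C_act hkS hv).2 c hc
    rw [Φ.C_ker hkS hv hv1, one_mul] at h1 ⊢
    exact ih u hu h1

end Sys

end Cfsg.Agent.SLMult
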