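import Mathlib
import Cfsg.Agent.Classical.LinearBasic
import Cfsg.Agent.SLMult.Rank

/-!
In a central extension of `SL(ι, F)` suitable lifts of the transvections satisfy the Steinberg
relations, outside the small exceptions.
-/

set_option autoImplicit false

namespace Cfsg.Agent.SLMult

open Matrix Matrix.SpecialLinearGroup Cfsg.Agent.Classical
open scoped commutatorElement

variable {F : Type*} [Field F] {ι : Type*} [Fintype ι] [DecidableEq ι] {Γ : Type*} [Group Γ]

/-- Transvection, extended by `1` on the diagonal. -/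
def tx (i j : ι) (a : F) : SpecialLinearGroup ι F :=
  if h : i ≠ j then Matrix.SpecialLinearGroup.transvection h a else 1

theorem tx_eq {i j : ι} (h : i ≠ j) (a : F) :
    tx i j a = Matrix.SpecialLinearGroup.transvection h a := dif_pos h

theorem tx_add {i j : ι} (h : i ≠ j) (a b : F) : tx i j (a + b) = tx i j a * tx i j b := by
  rw [tx_eq h, tx_eq h, tx_eq h, Matrix.SpecialLinearGroup.transvection_add]

theorem tx_zero (i j : ι) : tx i j (0 : F) = 1 := by
  unfold tx; split
  · exact Matrix.SpecialLinearGroup.transvection_coeff_zero _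
  · rfl

theorem tx_comm {i j k l : ι} (hij : i ≠ j) (hkl : k ≠ l) (hjk : j ≠ k) (hil : i ≠ l) (a b : F) :
    Commute (tx i j a) (tx k l b) := by
  show _ = _
  refine sl_ext_mulVec fun v => ?_
  simp only [Matrix.SpecialLinearGroup.coe_mul, tx_eq hij, tx_eq hkl,
    Matrix.SpecialLinearGroup.transvection_coe, ← Matrix.mulVec_mulVec, tv_mulVec]
  simp only [Pi.add_apply, Pi.single_apply, if_neg hjk, if_neg hil.symm, add_zero]
  abel

theorem tx_rel {i j k : ι} (hij : i ≠ j) (hjk : j ≠ k) (hik : i ≠ k) (a b : F) :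
    ⁅tx i j a, tx j k b⁆ = tx i k (a * b) := by
  rw [tx_eq hij, tx_eq hjk, tx_eq hik, comm_tv hik hij hjk]

theorem diagonal_conj_tx {h : SpecialLinearGroup ι F} {d : ι → F}
    (hd : h.1 = diagonal d) {i j : ι} (hij : i ≠ j) {a b : F} (hab : d i * a = b * d j) :
    h * tx i j a * h⁻¹ = tx i j b := by
  rw [mul_inv_eq_iff_eq_mul]
  refine sl_ext_mulVec fun v => funext fun r => ?_
  simp only [Matrix.SpecialLinearGroup.coe_mul, tx_eq hij, hd,
    Matrix.SpecialLinearGroup.transvection_coe, ← Matrix.mulVec_mulVec, tv_mulVec,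
    Matrix.mulVec_diagonal, Pi.add_apply, Pi.single_apply]
  by_cases hr : r = i
  · subst hr
    rw [if_pos rfl, if_pos rfl]
    linear_combination v j * hab
  · rw [if_neg hr, if_neg hr]; ring

/-- Weights of a product of two elementary torus elements. -/
def dd (i j : ι) (c : F) : ι → F := fun r => if r = i then c else if r = j then c⁻¹ else 1

theorem diag2n_dd {i j : ι} (hij : i ≠ j) {c : F} (hc : c ≠ 0) :
    (diag2n hij c hc : SpecialLinearGroup ι F).1 = diagonal (dd i j c) := by
  rw [diag2n_coe]; rfl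

theorem two_diag {i j k l : ι} (hij : i ≠ j) (hkl : k ≠ l) {c : F} (hc : c ≠ 0) :
    (diag2n hij c hc * diag2n hkl c hc : SpecialLinearGroup ι F).1 =
      diagonal (fun r => dd i j c r * dd k l c r) := by
  rw [Matrix.SpecialLinearGroup.coe_mul, diag2n_dd, diag2n_dd, diagonal_mul_diagonal]

variable (σ : Γ →* SpecialLinearGroup ι F) (hσ : Function.Surjective σ)

/-- A lift. -/
noncomputable def lift (g : SpecialLinearGroup ι F) : Γ := Function.surjInv hσ g

theorem lift_spec (g : SpecialLinearGroup ι F) : σ (lift σ hσ g) = g := Function.surjInv_eq hσ g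

variable {σ} (hc : σ.ker ≤ Subgroup.center Γ)

include hc in
theorem central_of_one {w : Γ} (hw : σ w = 1) (g : Γ) : g * w = w * g :=
  Subgroup.mem_center_iff.mp (hc hw) g

include hc in
theorem br_indep {A A' B B' : Γ} (hA : σ A = σ A') (hB : σ B = σ B') : ⁅A, B⁆ = ⁅A', B'⁆ := by
  have h1 : σ (A'⁻¹ * A) = 1 := by rw [map_mul, map_inv, hA, inv_mul_cancel]
  have h2 : σ (B'⁻¹ * B) = 1 := by rw [map_mul, map_inv, hB, inv_mul_cancel]
  obtain ⟨z, hz, rfl⟩ : ∃ z, σ z = 1 ∧ A = A' * z := ⟨_, h1, (mul_inv_cancel_left _ _).symm⟩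
  obtain ⟨w, hw, rfl⟩ : ∃ w, σ w = 1 ∧ B = B' * w := ⟨_, h2, (mul_inv_cancel_left _ _).symm⟩
  have cz := central_of_one hc hz
  have cw := central_of_one hc hw
  calc ⁅A' * z, B' * w⁆ = A' * (z * (B' * w)) * z⁻¹ * A'⁻¹ * w⁻¹ * B'⁻¹ := by
        rw [commutatorElement_def]; group
    _ = A' * ((B' * w) * z) * z⁻¹ * A'⁻¹ * w⁻¹ * B'⁻¹ := by rw [cz (B' * w)]
    _ = A' * B' * (w * A'⁻¹) * w⁻¹ * B'⁻¹ := by group
    _ = A' * B' * (A'⁻¹ * w) * w⁻¹ * B'⁻¹ := by rw [cw A'⁻¹]
    _ = ⁅A', B'⁆ := by rw [commutatorElement_def]; group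

include hc in
theorem conj_br {H A B A' B' : Γ} (hA : σ (H * A * H⁻¹) = σ A') (hB : σ (H * B * H⁻¹) = σ B') :
    H * ⁅A, B⁆ * H⁻¹ = ⁅A', B'⁆ := by
  rw [← br_indep hc hA hB]
  simp only [commutatorElement_def]; group

include hc in
/-- A lift of a commutator commutes with lifts of whatever commutes with both entries. -/
theorem commute_of_bracket {S V W U : Γ} (hv : Commute (σ S) (σ V)) (hw : Commute (σ S) (σ W))
    (hu : σ U = ⁅σ V, σ W⁆) : Commute S U := by
  have h1 : σ (S * V * S⁻¹) = σ V := by rw [map_mul, map_mul, map_inv, hv.eq, mul_inv_cancel_right]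
  have h2 : σ (S * W * S⁻¹) = σ W := by rw [map_mul, map_mul, map_inv, hw.eq, mul_inv_cancel_right]
  have h3 : Commute S ⁅V, W⁆ := mul_inv_eq_iff_eq_mul.mp (conj_br hc h1 h2)
  have hz : σ (⁅V, W⁆⁻¹ * U) = 1 := by
    rw [map_mul, map_inv, map_commutatorElement, hu, inv_mul_cancel]
  have := h3.mul_right (central_of_one hc hz S : Commute S (⁅V, W⁆⁻¹ * U))
  rwa [mul_inv_cancel_left] at this

include hc in
theorem br_central {A B : Γ} (h : Commute (σ A) (σ B)) (g : Γ) : g * ⁅A, B⁆ = ⁅A, B⁆ * g :=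
  central_of_one hc (by rw [map_commutatorElement, commutatorElement_eq_one_iff_commute]; exact h) g

theorem br_mul_left (A A' B : Γ) : ⁅A * A', B⁆ = A * ⁅A', B⁆ * A⁻¹ * ⁅A, B⁆ := by
  simp only [commutatorElement_def]; group

theorem br_mul_right (A B B' : Γ) : ⁅A, B * B'⁆ = ⁅A, B⁆ * (B * ⁅A, B'⁆ * B⁻¹) := by
  simp only [commutatorElement_def]; group

/-- The commutator of chosen lifts. -/
noncomputable def Br (i j k l : ι) (a b : F) : Γ :=
  ⁅lift σ hσ (tx i j a), lift σ hσ (tx k l b)⁆

include hc in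
theorem Br_add_left {i j k l : ι} (hij : i ≠ j) (a a' b : F)
    (h : Commute (lift σ hσ (tx i j a)) (Br hσ i j k l a' b)) :
    Br hσ i j k l (a + a') b = Br hσ i j k l a' b * Br hσ i j k l a b := by
  unfold Br at *
  rw [br_indep hc (A' := lift σ hσ (tx i j a) * lift σ hσ (tx i j a'))
    (by rw [map_mul, lift_spec, lift_spec, lift_spec, tx_add hij]) rfl, br_mul_left, h.eq,
    mul_inv_cancel_right]

include hc in
theorem Br_add_right {i j k l : ι} (hkl : k ≠ l) (a b b' : F)
    (h : Commute (lift σ hσ (tx k l b)) (Br hσ i j k l a b')) :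
    Br hσ i j k l a (b + b') = Br hσ i j k l a b * Br hσ i j k l a b' := by
  unfold Br at *
  rw [br_indep hc (A := lift σ hσ (tx i j a)) (A' := lift σ hσ (tx i j a)) rfl
    (B' := lift σ hσ (tx k l b) * lift σ hσ (tx k l b'))
    (by rw [map_mul, lift_spec, lift_spec, lift_spec, tx_add hkl]), br_mul_right, h.eq,
    mul_inv_cancel_right]

theorem Br_zero_left {i j k l : ι} (b : F) : σ (Br hσ i j k l 0 b) = 1 := by
  rw [Br, map_commutatorElement, lift_spec, tx_zero, commutatorElement_one_left]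

include hc in
theorem Br_comm {i j k l : ι} (hij : i ≠ j) (hkl : k ≠ l) (hjk : j ≠ k) (hil : i ≠ l) (a b : F)
    (g : Γ) : Commute g (Br hσ i j k l a b) :=
  br_central hc (by rw [lift_spec, lift_spec]; exact tx_comm hij hkl hjk hil a b) g

include hc in
theorem Br_comm_add {i j k l : ι} (hij : i ≠ j) (hkl : k ≠ l) (hjk : j ≠ k) (hil : i ≠ l) :
    (∀ a a' b, Br hσ i j k l (a + a') b = Br hσ i j k l a b * Br hσ i j k l a' b) ∧
      ∀ a b b', Br hσ i j k l a (b + b') = Br hσ i j k l a b * Br hσ i j k l a b' :=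
  ⟨fun a a' b => by
    rw [Br_add_left hσ hc hij a a' b (Br_comm hσ hc hij hkl hjk hil a' b _)]
    exact (Br_comm hσ hc hij hkl hjk hil a b _).eq,
  fun a b b' => Br_add_right hσ hc hkl a b b' (Br_comm hσ hc hij hkl hjk hil a b' _)⟩

include hc in
theorem Br_scale {i j k l : ι} (hij : i ≠ j) (hkl : k ≠ l) (hjk : j ≠ k) (hil : i ≠ l)
    {h : SpecialLinearGroup ι F} {d : ι → F} (hd : h.1 = diagonal d) {a b a' b' : F}
    (ha : d i * a = a' * d j) (hb : d k * b = b' * d l) :
    Br hσ i j k l a' b' = Br hσ i j k l a b := by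
  have e : lift σ hσ h * Br hσ i j k l a b * (lift σ hσ h)⁻¹ = Br hσ i j k l a' b' :=
    conj_br hc (by simp [map_mul, lift_spec, diagonal_conj_tx hd hij ha])
      (by simp [map_mul, lift_spec, diagonal_conj_tx hd hkl hb])
  rw [← e, (Br_comm hσ hc hij hkl hjk hil a b (lift σ hσ h)).eq, mul_inv_cancel_right]

theorem eq_one_of_scale {B : F → Γ} (hadd : ∀ b b', B (b + b') = B b * B b') {s : F} (hs : s ≠ 1)
    (h : ∀ b, B (s * b) = B b) (b : F) : B b = 1 := by
  have hne := sub_ne_zero.mpr hs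
  have e := hadd ((s - 1) * (b / (s - 1))) (b / (s - 1))
  rw [show (s - 1) * (b / (s - 1)) + b / (s - 1) = s * (b / (s - 1)) by ring, h,
    mul_div_cancel₀ b hne] at e
  exact mul_eq_right.mp e.symm

/-- Pairs `(|ι|, |F|)` for which the relations lift. -/
def Good (ι F : Type*) [Fintype ι] : Prop :=
  3 ≤ Fintype.card ι ∧ (Fintype.card ι = 4 → Nat.card F ≠ 2) ∧
    (Fintype.card ι = 3 → Nat.card F ≠ 2 ∧ Nat.card F ≠ 4)

omit [Field F] [Group Γ] in
theorem exists_index {n : ℕ} (s : Finset ι) (hs : s.card ≤ n) (hn : n < Fintype.card ι) :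
    ∃ m, m ∉ s := by
  have h : s.card < (Finset.univ : Finset ι).card := by rw [Finset.card_univ]; omega
  obtain ⟨m, -, hm⟩ := Finset.exists_mem_notMem_of_card_lt_card h
  exact ⟨m, hm⟩

section Rel

variable [Finite F] (hG : Good ι F)

omit [Group Γ] in
theorem exists_cube_ne (hq2 : Nat.card F ≠ 2) (hq4 : Nat.card F ≠ 4) :
    ∃ c : F, c ≠ 0 ∧ c ^ 3 ≠ 1 := by
  have := Fintype.ofFinite F
  rw [Nat.card_eq_fintype_card] at hq2 hq4
  by_contra hcon
  push Not at hcon
  classical
  have h1 : Fintype.card F ≤ 4 := by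
    have hsub : Finset.univ.erase (0 : F) ⊆ (Polynomial.nthRoots 3 (1 : F)).toFinset := fun c hc => by
      simp only [Finset.mem_erase, Finset.mem_univ, and_true] at hc
      simp [Polynomial.mem_nthRoots (show 0 < 3 by norm_num), hcon c hc]
    have := (Finset.card_le_card hsub).trans
      ((Multiset.toFinset_card_le _).trans (Polynomial.card_nthRoots 3 (1 : F)))
    rw [Finset.card_erase_of_mem (Finset.mem_univ _), Finset.card_univ] at this
    omega
  have h3 : Fintype.card F = 3 := by have := Fintype.one_lt_card (α := F); omega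
  have h := hcon (-1) (by simp)
  rw [Odd.neg_one_pow (by decide)] at h
  have : ringChar F ≠ 2 := fun h2 => by
    have := FiniteField.even_card_of_char_two h2
    omega
  exact Ring.neg_one_ne_one_of_char_ne_two this h

omit [Group Γ] in
theorem exists_sq_ne (hq2 : Nat.card F ≠ 2) (hq3 : Nat.card F ≠ 3) :
    ∃ c : F, c ≠ 0 ∧ c ^ 2 ≠ 1 := by
  have := Fintype.ofFinite F
  rw [Nat.card_eq_fintype_card] at hq2 hq3
  by_contra hcon
  push Not at hcon
  classical
  have hsub : Finset.univ.erase (0 : F) ⊆ (Polynomial.nthRoots 2 (1 : F)).toFinset := fun c hc => by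
    simp only [Finset.mem_erase, Finset.mem_univ, and_true] at hc
    simp [Polynomial.mem_nthRoots (show 0 < 2 by norm_num), hcon c hc]
  have := (Finset.card_le_card hsub).trans
    ((Multiset.toFinset_card_le _).trans (Polynomial.card_nthRoots 2 (1 : F)))
  rw [Finset.card_erase_of_mem (Finset.mem_univ _), Finset.card_univ] at this
  have := Fintype.one_lt_card (α := F)
  omega

include hc hG in
/-- Lifts of commuting root elements commute. -/
theorem lift_comm {i j k l : ι} (hij : i ≠ j) (hkl : k ≠ l) (hjk : j ≠ k) (hil : i ≠ l) (a b : F) :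
    Commute (lift σ hσ (tx i j a)) (lift σ hσ (tx k l b)) := by
  have key : ∀ m, m ≠ i → m ≠ j → m ≠ k → m ≠ l →
      Commute (lift σ hσ (tx i j a)) (lift σ hσ (tx k l b)) := fun m hmi hmj hmk hml => by
    refine commute_of_bracket hc (V := lift σ hσ (tx k m b)) (W := lift σ hσ (tx m l 1)) ?_ ?_ ?_
    · simp only [lift_spec]; exact tx_comm hij hmk.symm hjk hmi.symm a b
    · simp only [lift_spec]; exact tx_comm hij hml hmj.symm hil a 1
    · simp only [lift_spec, tx_rel hmk.symm hml hkl, mul_one]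
  by_cases hex : ∃ m, m ≠ i ∧ m ≠ j ∧ m ≠ k ∧ m ≠ l
  · obtain ⟨m, h1, h2, h3, h4⟩ := hex
    exact key m h1 h2 h3 h4
  push Not at hex
  rw [← commutatorElement_eq_one_iff_commute]
  show Br hσ i j k l a b = 1
  obtain ⟨hl, hr⟩ := Br_comm_add hσ hc hij hkl hjk hil
  have hcard : ∀ s : Finset ι, (∀ m, m ∈ s) → Fintype.card ι ≤ s.card := fun s hs =>
    (Finset.card_le_card fun m _ => hs m : (Finset.univ : Finset ι).card ≤ s.card)
  by_cases hki : k = i
  · subst hki
    by_cases hlj : l = j
    · subst hlj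
      have h2 := (hcard {k, l} fun m => by
        by_cases h1 : m = k
        · simp [h1]
        by_cases h2 : m = l
        · simp [h2]
        exact absurd (hex m h1 h2 h1) h2).trans Finset.card_le_two
      have := hG.1
      omega
    -- same row, `n = 3`
    have h3 := (hcard {k, j, l} fun m => by
      by_cases h1 : m = k
      · simp [h1]
      by_cases h2 : m = j
      · simp [h2]
      simp [hex m h1 h2 h1]).trans Finset.card_le_three
    obtain ⟨hq2, hq4⟩ := hG.2.2 (le_antisymm h3 hG.1)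
    obtain ⟨c, hc0, hc3⟩ := exists_cube_ne hq2 hq4
    refine eq_one_of_scale (B := fun b => Br hσ k j k l a b) (hr a) hc3 (fun b => ?_) b
    refine Br_scale hσ hc hij hkl hjk hil (two_diag (c := c) hkl (Ne.symm hlj) hc0) ?_ ?_
    · simp [dd, hkl, hij, hkl.symm, hij.symm, hlj, Ne.symm hlj]; ring
    · simp [dd, hkl, hij, hkl.symm, hij.symm, hlj, Ne.symm hlj]; field_simp
  by_cases hlj : l = j
  · subst hlj
    -- same column, `n = 3`
    have h3 := (hcard {i, l, k} fun m => by
      by_cases h1 : m = i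
      · simp [h1]
      by_cases h2 : m = l
      · simp [h2]
      by_cases h3 : m = k
      · simp [h3]
      exact absurd (hex m h1 h2 h3) h2).trans Finset.card_le_three
    obtain ⟨hq2, hq4⟩ := hG.2.2 (le_antisymm h3 hG.1)
    obtain ⟨c, hc0, hc3⟩ := exists_cube_ne hq2 hq4
    refine eq_one_of_scale (B := fun b => Br hσ i l k l a b) (hr a) hc3 (fun b => ?_) b
    refine Br_scale hσ hc hij hkl hjk hil (two_diag (c := c) hki hkl hc0) ?_ ?_
    · simp [dd, hkl, hki, hij, hkl.symm, Ne.symm hki, hij.symm]; ring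
    · simp [dd, hkl, hki, hij, hkl.symm, Ne.symm hki, hij.symm]; field_simp
  -- disjoint, `n = 4`
  have h4 := (hcard {i, j, k, l} fun m => by
    by_cases h1 : m = i
    · simp [h1]
    by_cases h2 : m = j
    · simp [h2]
    by_cases h3 : m = k
    · simp [h3]
    simp [hex m h1 h2 h3]).trans Finset.card_le_four
  have h4' : ({i, j, k, l} : Finset ι).card ≤ Fintype.card ι := Finset.card_le_univ _
  have hi4 : Fintype.card ι = 4 := le_antisymm h4 (by
    rw [Finset.card_eq_four.mpr ⟨i, j, k, l, hij, Ne.symm hki, hil, hjk, Ne.symm hlj, hkl, rfl⟩] at h4'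
    exact h4')
  have hq2 := hG.2.1 hi4
  by_cases hq3 : Nat.card F = 3
  swap
  · obtain ⟨c, hc0, hc2⟩ := exists_sq_ne hq2 hq3
    refine eq_one_of_scale (B := fun a => Br hσ i j k l a b) (fun a a' => hl a a' b) hc2 (fun a => ?_) a
    refine Br_scale hσ hc hij hkl hjk hil (diag2n_dd hij hc0) ?_ ?_
    · simp [dd, hij.symm]; field_simp
    · simp [dd, hki, hjk.symm, Ne.symm hil, hlj]
  -- `q = 3`: swap the two root groups
  have := Fintype.ofFinite F
  rw [Nat.card_eq_fintype_card] at hq3
  classical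
  let π : Equiv.Perm ι := Equiv.swap i k * Equiv.swap j l
  have hπk : π k = i := by
    simp only [π, Equiv.Perm.mul_apply]
    rw [Equiv.swap_apply_of_ne_of_ne hjk.symm hkl, Equiv.swap_apply_right]
  have hπi : π i = k := by
    simp only [π, Equiv.Perm.mul_apply]
    rw [Equiv.swap_apply_of_ne_of_ne hij hil, Equiv.swap_apply_left]
  have hπl : π l = j := by
    simp only [π, Equiv.Perm.mul_apply, Equiv.swap_apply_right]
    exact Equiv.swap_apply_of_ne_of_ne hij.symm hjk
  have hπj : π j = l := by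
    simp only [π, Equiv.Perm.mul_apply, Equiv.swap_apply_left]
    exact Equiv.swap_apply_of_ne_of_ne hil.symm hkl.symm
  have hsign : Equiv.Perm.sign π = 1 := by
    simp only [π, Equiv.Perm.sign_mul, Equiv.Perm.sign_swap (Ne.symm hki),
      Equiv.Perm.sign_swap (Ne.symm hlj)]
    rfl
  let P : SpecialLinearGroup ι F := ⟨π.permMatrix F, by rw [Matrix.det_permutation, hsign]; simp⟩
  have hP : ∀ v r, (P.1 *ᵥ v) r = v (π r) := fun v r => by
    simp [P, Matrix.mulVec, dotProduct, Equiv.Perm.permMatrix, PEquiv.toMatrix_apply]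
  have hconj : ∀ {i j i' j' : ι}, i ≠ j → i' ≠ j' → π i' = i → π j' = j → ∀ a : F,
      P * tx i j a * P⁻¹ = tx i' j' a := by
    intro i j i' j' h h' hi hj a
    rw [mul_inv_eq_iff_eq_mul]
    refine sl_ext_mulVec fun v => funext fun r => ?_
    simp only [Matrix.SpecialLinearGroup.coe_mul, tx_eq h, tx_eq h',
      Matrix.SpecialLinearGroup.transvection_coe, ← Matrix.mulVec_mulVec, tv_mulVec,
      Pi.add_apply, Pi.single_apply, hP]
    rw [hj]
    simp only [← hi, EmbeddingLike.apply_eq_iff_eq]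
  have hswap : ∀ a b, Br hσ i j k l a b = (Br hσ i j k l b a)⁻¹ := by
    intro a b
    have e : lift σ hσ P * Br hσ i j k l a b * (lift σ hσ P)⁻¹ =
        ⁅lift σ hσ (tx k l a), lift σ hσ (tx i j b)⁆ :=
      conj_br hc (by simp [map_mul, lift_spec, hconj hij hkl hπk hπl])
        (by simp [map_mul, lift_spec, hconj hkl hij hπi hπj])
    rw [(Br_comm hσ hc hij hkl hjk hil a b (lift σ hσ P)).eq, mul_inv_cancel_right,
      ← commutatorElement_inv] at e
    exact e
  have h0l : ∀ b, Br hσ i j k l 0 b = 1 := fun b => by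
    have := hl 0 0 b
    rw [add_zero] at this
    exact left_eq_mul.mp this
  have hr0 : ∀ a, Br hσ i j k l a 0 = 1 := fun a => by
    have := hr a 0 0
    rw [add_zero] at this
    exact left_eq_mul.mp this
  have h33 : (1 : F) + 1 + 1 = 0 := by
    have : ((Fintype.card F : ℕ) : F) = 0 := FiniteField.cast_card_eq_zero F
    rw [hq3] at this
    push_cast at this
    linear_combination this
  have h11 : Br hσ i j k l 1 1 = 1 := by
    have h3 : Br hσ i j k l (1 + 1 + 1) 1 = 1 := by rw [h33, h0l]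
    rw [hl, hl, eq_inv_iff_mul_eq_one.mp (hswap 1 1), one_mul] at h3
    exact h3
  have hall : ∀ x : F, x = 0 ∨ x = 1 ∨ x = -1 := by
    intro x
    by_contra hx
    push Not at hx
    have hne : (-1 : F) ≠ 1 := fun e => one_ne_zero (α := F) (by linear_combination h33 + e)
    have h := Finset.card_le_univ ({x, 0, 1, -1} : Finset F)
    rw [hq3, Finset.card_eq_four.mpr ⟨x, 0, 1, -1, hx.1, hx.2.1, hx.2.2, zero_ne_one,
      (neg_ne_zero.mpr one_ne_zero).symm, hne.symm, rfl⟩] at h
    omega
  have hb1 : ∀ b, Br hσ i j k l 1 b = 1 := fun b => by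
    rcases hall b with rfl | rfl | rfl
    · exact hr0 1
    · exact h11
    · have := hr 1 1 (-1)
      rw [add_neg_cancel, hr0, h11, one_mul] at this
      exact this.symm
  rcases hall a with rfl | rfl | rfl
  · exact h0l b
  · exact hb1 b
  · have := hl 1 (-1) b
    rw [add_neg_cancel, h0l, hb1, one_mul] at this
    exact this.symm

include hσ hc hG in
theorem comm_of_map {i j k l : ι} (hij : i ≠ j) (hkl : k ≠ l) (hjk : j ≠ k) (hil : i ≠ l) {a b : F}
    {A B : Γ} (hA : σ A = tx i j a) (hB : σ B = tx k l b) : Commute A B := by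
  rw [← commutatorElement_eq_one_iff_commute,
    br_indep hc (A' := lift σ hσ (tx i j a)) (B' := lift σ hσ (tx k l b))
      (by rw [lift_spec, hA]) (by rw [lift_spec, hB]), commutatorElement_eq_one_iff_commute]
  exact lift_comm hσ hc hG hij hkl hjk hil a b

/-- The middle-`j` commutator. -/
noncomputable def Y (i j k : ι) (a b : F) : Γ := Br hσ i j j k a b

theorem Y_map {i j k : ι} (hij : i ≠ j) (hjk : j ≠ k) (hik : i ≠ k) (a b : F) :
    σ (Y hσ i j k a b) = tx i k (a * b) := by
  rw [Y, Br, map_commutatorElement, lift_spec, lift_spec, tx_rel hij hjk hik]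

include hc hG in
theorem Y_add {i j k : ι} (hij : i ≠ j) (hjk : j ≠ k) (hik : i ≠ k) :
    (∀ a a' b, Y hσ i j k (a + a') b = Y hσ i j k a b * Y hσ i j k a' b) ∧
      ∀ a b b', Y hσ i j k a (b + b') = Y hσ i j k a b * Y hσ i j k a b' := by
  refine ⟨fun a a' b => ?_, fun a b b' => ?_⟩
  · show Br hσ i j j k (a + a') b = _
    rw [Br_add_left hσ hc hij a a' b (comm_of_map hσ hc hG hij hik hij.symm hik
      (lift_spec σ hσ _) (Y_map hσ hij hjk hik a' b))]
    exact (comm_of_map hσ hc hG hik hik hik.symm hik (Y_map hσ hij hjk hik a' b)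
      (Y_map hσ hij hjk hik a b)).eq
  · exact Br_add_right hσ hc hjk a b b' (comm_of_map hσ hc hG hjk hik hik.symm hjk
      (lift_spec σ hσ _) (Y_map hσ hij hjk hik a b'))

include hc hG in
theorem Y_move {i j l k : ι} (hij : i ≠ j) (hjl : j ≠ l) (hlk : l ≠ k) (hil : i ≠ l) (hjk : j ≠ k)
    (hik : i ≠ k) (a b c : F) : Y hσ i j k a (b * c) = Y hσ i l k (a * b) c := by
  set A := lift σ hσ (tx i j a)
  set B := lift σ hσ (tx j l b)
  set C := lift σ hσ (tx l k c)
  have hA : σ A = tx i j a := lift_spec σ hσ _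
  have hB : σ B = tx j l b := lift_spec σ hσ _
  have hC : σ C = tx l k c := lift_spec σ hσ _
  have hD : σ ⁅A, B⁆ = tx i l (a * b) := by rw [map_commutatorElement, hA, hB, tx_rel hij hjl hil]
  have hE : σ ⁅B, C⁆ = tx j k (b * c) := by rw [map_commutatorElement, hB, hC, tx_rel hjl hlk hjk]
  have h1 : Y hσ i j k a (b * c) = ⁅A, ⁅B, C⁆⁆ :=
    br_indep hc rfl (by rw [lift_spec, hE])
  have h2 : Y hσ i l k (a * b) c = ⁅⁅A, B⁆, C⁆ :=
    br_indep hc (by rw [lift_spec, hD]) rfl
  have cDE := (comm_of_map hσ hc hG hil hjk hjl.symm hik hD hE).eq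
  have cAC := (comm_of_map hσ hc hG hij hlk hjl hik hA hC).eq
  have cXE : Commute ⁅⁅A, B⁆, C⁆ ⁅B, C⁆ := comm_of_map hσ hc hG hik hjk hjk.symm hik
    (by rw [map_commutatorElement, hD, hC, tx_rel hil hlk hik]) hE
  rw [h1, h2]
  calc ⁅A, ⁅B, C⁆⁆ = ⁅A * B * A⁻¹, A * C * A⁻¹⁆ * ⁅B, C⁆⁻¹ := by
        simp only [commutatorElement_def]; group
    _ = ⁅⁅A, B⁆ * B, C⁆ * ⁅B, C⁆⁻¹ := by
        rw [cAC, mul_inv_cancel_right, show A * B * A⁻¹ = ⁅A, B⁆ * B by
          simp only [commutatorElement_def]; group]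
    _ = ⁅A, B⁆ * ⁅B, C⁆ * ⁅A, B⁆⁻¹ * ⁅⁅A, B⁆, C⁆ * ⁅B, C⁆⁻¹ := by rw [br_mul_left]
    _ = ⁅B, C⁆ * ⁅⁅A, B⁆, C⁆ * ⁅B, C⁆⁻¹ := by rw [cDE, mul_inv_cancel_right]
    _ = ⁅⁅A, B⁆, C⁆ := by rw [← cXE.eq, mul_inv_cancel_right]

include hc hG in
theorem Y_middle {i j k : ι} (hij : i ≠ j) (hjk : j ≠ k) (hik : i ≠ k)
    (hq : Nat.card F ≠ 2 ∧ Nat.card F ≠ 4) (a b : F) :
    Y hσ i j k a b = Y hσ i j k (a * b) 1 := by
  have := Fintype.ofFinite F
  obtain ⟨hl, hr⟩ := Y_add hσ hc hG hij hjk hik
  have hcube : ∀ c : F, c ≠ 0 → ∀ a b, Y hσ i j k (c ^ 3 * a) b = Y hσ i j k a (c ^ 3 * b) := by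
    intro c hc0 a b
    set h : SpecialLinearGroup ι F := diag2n hij c hc0 * diag2n hjk.symm c hc0
    set d : ι → F := fun r => dd i j c r * dd k j c r
    have hd : h.1 = diagonal d := two_diag hij hjk.symm hc0
    have hdi : d i = c := by simp [d, dd, hij, hik]
    have hdj : d j = c⁻¹ * c⁻¹ := by simp [d, dd, hij.symm, hjk]
    have hdk : d k = c := by simp [d, dd, hjk.symm, hik.symm]
    set H := lift σ hσ h
    set y := Y hσ i j k a (c ^ 3 * b) with hy
    have e : H * y * H⁻¹ = Y hσ i j k (c ^ 3 * a) b :=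
      conj_br hc
        (by rw [map_mul, map_mul, map_inv, lift_spec, lift_spec, lift_spec]
            exact diagonal_conj_tx hd hij (by rw [hdi, hdj]; field_simp))
        (by rw [map_mul, map_mul, map_inv, lift_spec, lift_spec, lift_spec]
            exact diagonal_conj_tx hd hjk (by rw [hdj, hdk]; field_simp))
    obtain ⟨z, hz⟩ : ∃ z, z = H * y * H⁻¹ * y⁻¹ := ⟨_, rfl⟩
    have hz1 : σ z = 1 := by
      simp only [hz, map_mul, map_inv, hy, Y_map hσ hij hjk hik, H, lift_spec]
      rw [diagonal_conj_tx hd hik (b := a * (c ^ 3 * b)) (by rw [hdi, hdk]; ring), mul_inv_cancel]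
    have hzc := central_of_one hc hz1
    have hHy : H * y * H⁻¹ = z * y := by rw [hz, inv_mul_cancel_right]
    have hpowH : ∀ N : ℕ, H ^ N * y * (H ^ N)⁻¹ = z ^ N * y := by
      intro N
      induction N with
      | zero => simp
      | succ N ih =>
        rw [pow_succ', show H * H ^ N * y * (H * H ^ N)⁻¹ = H * (H ^ N * y * (H ^ N)⁻¹) * H⁻¹ by
          group, ih, show H * (z ^ N * y) * H⁻¹ = (H * z ^ N * H⁻¹) * (H * y * H⁻¹) by group, hHy,
          (Commute.pow_right (hzc H) N).eq, mul_inv_cancel_right, pow_succ, mul_assoc]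
    have hN : z ^ (Fintype.card F - 1) = 1 := by
      have hH1 : σ (H ^ (Fintype.card F - 1)) = 1 := by
        rw [map_pow, lift_spec]
        refine Subtype.ext ?_
        rw [Matrix.SpecialLinearGroup.coe_pow, hd, diagonal_pow, Matrix.SpecialLinearGroup.coe_one,
          ← diagonal_one]
        congr 1
        funext r
        refine FiniteField.pow_card_sub_one_eq_one _ (mul_ne_zero ?_ ?_) <;>
        · unfold dd; split_ifs <;> simp [hc0]
      have := hpowH (Fintype.card F - 1)
      rw [← central_of_one hc hH1 y, mul_inv_cancel_right] at this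
      exact right_eq_mul.mp this
    have hp : z ^ ringChar F = 1 := by
      have hy1 : σ (y ^ ringChar F) = 1 := by
        rw [map_pow, hy, Y_map hσ hij hjk hik]
        have : ∀ (N : ℕ) (x : F), tx (ι := ι) i k x ^ N = tx i k (N * x) := by
          intro N x
          induction N with
          | zero => simp [tx_zero]
          | succ N ih => rw [pow_succ, ih, ← tx_add hik]; congr 1; push_cast; ring
        rw [this, CharP.cast_eq_zero F (ringChar F), zero_mul, tx_zero]
      have h1 : (z * y) ^ ringChar F = y ^ ringChar F := by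
        rw [← hHy, conj_pow, central_of_one hc hy1 H, mul_inv_cancel_right]
      rw [(Commute.mul_pow (hzc y).symm)] at h1
      exact mul_eq_right.mp h1
    have hz0 : z = 1 := by
      rw [← orderOf_eq_one_iff]
      refine Nat.eq_one_of_dvd_coprimes ?_ (orderOf_dvd_of_pow_eq_one hp) (orderOf_dvd_of_pow_eq_one hN)
      have hpp : (ringChar F).Prime := CharP.char_is_prime F (ringChar F)
      rw [hpp.coprime_iff_not_dvd]
      intro hdvd
      obtain ⟨n, -, hcard⟩ := FiniteField.card F (ringChar F)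
      have h1 : 1 ≤ Fintype.card F := Fintype.card_pos
      have := Nat.dvd_sub (hcard ▸ dvd_pow_self (ringChar F) n.pos.ne' : ringChar F ∣ Fintype.card F) hdvd
      rw [Nat.sub_sub_self h1] at this
      exact hpp.not_dvd_one this
    rw [← e, hHy, hz0, one_mul]
  have h0l : ∀ b, Y hσ i j k 0 b = 1 := fun b => by
    have := hl 0 0 b
    rw [add_zero] at this
    exact left_eq_mul.mp this
  have h0r : ∀ a, Y hσ i j k a 0 = 1 := fun a => by
    have := hr a 0 0
    rw [add_zero] at this
    exact left_eq_mul.mp this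
  let K : Subfield F :=
    { carrier := {s | ∀ a b, Y hσ i j k (s * a) b = Y hσ i j k a (s * b)}
      mul_mem' := fun {s t} hs ht a b => by rw [mul_assoc, hs, ht, mul_left_comm, mul_assoc]
      one_mem' := fun a b => by rw [one_mul, one_mul]
      add_mem' := fun {s t} hs ht a b => by rw [add_mul, hl, hs, ht, add_mul, hr]
      zero_mem' := fun a b => by rw [zero_mul, zero_mul, h0l, h0r]
      neg_mem' := fun {s} hs a b => by
        have e1 := hs (-a) b
        rw [mul_neg] at e1
        rw [neg_mul, e1]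
        have e2 := hl a (-a) (s * b)
        have e3 := hr a (s * b) (-(s * b))
        rw [add_neg_cancel, h0l] at e2
        rw [add_neg_cancel, h0r] at e3
        rw [neg_mul]
        exact mul_left_cancel (e2.symm.trans e3)
      inv_mem' := fun s hs a b => by
        rcases eq_or_ne s 0 with rfl | h0
        · rw [_root_.inv_zero, zero_mul, zero_mul, h0l, h0r]
        · have := hs (s⁻¹ * a) (s⁻¹ * b)
          rw [mul_inv_cancel_left₀ h0, mul_inv_cancel_left₀ h0] at this
          exact this.symm }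
  have hK : Nat.card K = Nat.card F := by
    classical
    obtain ⟨d, hd, hcard⟩ : ∃ d, 1 ≤ d ∧ Nat.card F = Nat.card K ^ d :=
      ⟨Module.finrank K F, Module.finrank_pos, Module.natCard_eq_pow_finrank⟩
    rcases hd.lt_or_eq with hd2 | hd1
    swap
    · rw [hcard, ← hd1, pow_one]
    exfalso
    have hsq : Nat.card K ^ 2 ≤ Nat.card F := hcard ▸ Nat.pow_le_pow_right Nat.card_pos hd2
    set f : Fˣ →* Fˣ := powMonoidHom 3
    have hker : Nat.card f.ker ≤ 3 := by
      rw [show f.ker = rootsOfUnity 3 F from SetLike.ext fun x => by simp [f, MonoidHom.mem_ker]]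
      exact card_rootsOfUnity F 3
    have hrange : Nat.card f.range ≤ Nat.card Kˣ := by
      refine Nat.card_le_card_of_injective (fun u => Units.mk0 (⟨((u : Fˣ) : F), ?_⟩ : K) ?_) ?_
      · obtain ⟨x, hx⟩ := u.2
        rw [← hx]
        exact hcube (x : F) x.ne_zero
      · exact fun h => (u : Fˣ).ne_zero (congrArg Subtype.val h)
      · intro u v h
        exact Subtype.ext (Units.ext (congrArg (fun w : Kˣ => ((w : K) : F)) h))
    have h5 : Nat.card Fˣ = Nat.card f.range * Nat.card f.ker := by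
      rw [Subgroup.card_eq_card_quotient_mul_card_subgroup f.ker,
        Nat.card_congr (QuotientGroup.quotientKerEquivRange f).toEquiv]
    rw [Nat.card_units] at h5 hrange
    have h6 := Nat.mul_le_mul hrange hker
    have h7 : 2 ≤ Nat.card K := Finite.one_lt_card
    have h6' : Nat.card F + 2 ≤ 3 * Nat.card K := by omega
    have h8 : Nat.card K ≤ 2 := by
      by_contra hgt
      have h3 : 3 * Nat.card K ≤ Nat.card K * Nat.card K := Nat.mul_le_mul_right _ (by omega)
      rw [pow_two] at hsq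
      omega
    obtain ⟨hq2, hq4⟩ := hq
    have h9 : Nat.card K = 2 := le_antisymm h8 h7
    rw [h9] at h6 hcard
    have h10 : Nat.card F ≤ 4 := by omega
    have : d ≤ 2 := (Nat.pow_le_pow_iff_right (le_refl 2)).mp (hcard ▸ h10 : 2 ^ d ≤ 2 ^ 2)
    interval_cases d <;> simp_all
  have : b ∈ K := by
    rw [show K = ⊤ from SetLike.coe_injective (Set.eq_univ_of_forall ?_)]
    · exact Subfield.mem_top _
    have hu : (K : Set F) = Set.univ := Set.eq_of_subset_of_ncard_le (Set.subset_univ _)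
      (by rw [Set.ncard_univ, ← Nat.card_coe_set_eq]; exact hK.ge) (Set.toFinite _)
    exact fun x => hu ▸ Set.mem_univ x
  have := this a 1
  rw [mul_one, mul_comm b a] at this
  exact this.symm

include hc hG in
theorem Y_eq {i j j' k : ι} (hij : i ≠ j) (hjk : j ≠ k) (hij' : i ≠ j') (hjk' : j' ≠ k)
    (hik : i ≠ k) (a b : F) : Y hσ i j k a b = Y hσ i j' k (a * b) 1 := by
  by_cases h3 : Fintype.card ι = 3
  · have : j = j' := by
      by_contra h
      have := Finset.card_le_univ ({i, j, j', k} : Finset ι)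
      rw [Finset.card_eq_four.mpr ⟨i, j, j', k, hij, hij', hik, h, hjk, hjk', rfl⟩] at this
      omega
    subst this
    exact Y_middle hσ hc hG hij hjk hik (hG.2.2 h3) a b
  have hn : 3 < Fintype.card ι := lt_of_le_of_ne hG.1 (Ne.symm h3)
  have indep : ∀ {u v}, i ≠ u → u ≠ k → i ≠ v → v ≠ k → u ≠ v → ∀ x,
      Y hσ i u k x 1 = Y hσ i v k x 1 := fun h1 h2 h3 h4 huv x => by
    simpa using Y_move hσ hc hG h1 huv h4 h3 h2 hik x 1 1
  obtain ⟨l, hl⟩ := exists_index (n := 3) ({i, j, k} : Finset ι) Finset.card_le_three hn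
  simp only [Finset.mem_insert, Finset.mem_singleton, not_or] at hl
  have e : Y hσ i j k a b = Y hσ i l k (a * b) 1 := by
    simpa using Y_move hσ hc hG hij (Ne.symm hl.2.1) hl.2.2 (Ne.symm hl.1) hjk hik a b 1
  rw [e]
  by_cases h : l = j'
  · rw [h]
  · exact indep (Ne.symm hl.1) hl.2.2 hij' hjk' h _

include hσ hc hG in
/-- The Steinberg relations lift. -/
theorem exists_sys : Nonempty (Sys σ) := by
  have hex : ∀ i k : ι, ∃ j, i ≠ j ∧ j ≠ k := fun i k => by
    obtain ⟨m, hm⟩ := exists_index (n := 2) ({i, k} : Finset ι) Finset.card_le_two (by have := hG.1; omega)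
    simp only [Finset.mem_insert, Finset.mem_singleton, not_or] at hm
    exact ⟨m, Ne.symm hm.1, hm.2⟩
  choose mid hmid using hex
  have hmap : ∀ {i k : ι}, i ≠ k → ∀ t, σ (Y hσ i (mid i k) k t 1) = tx i k t := fun {i k} h t => by
    rw [Y_map hσ (hmid i k).1 (hmid i k).2 h, mul_one]
  refine ⟨{ X := fun i k t => Y hσ i (mid i k) k t 1, map := ?_, add := ?_, comm := ?_, rel := ?_ }⟩
  · intro i k h t
    rw [hmap h, tx_eq h]
  · intro i k h a b
    exact (Y_add hσ hc hG (hmid i k).1 (hmid i k).2 h).1 a b 1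
  · intro i j k l hij hkl hjk hil a b
    exact comm_of_map hσ hc hG hij hkl hjk hil (hmap hij a) (hmap hkl b)
  · intro i j k hij hjk hik a b
    rw [← Y_eq hσ hc hG hij hjk (hmid i k).1 (hmid i k).2 hik]
    exact br_indep hc (by rw [hmap hij, lift_spec]) (by rw [hmap hjk, lift_spec])

end Rel

end Cfsg.Agent.SLMult
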