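import Mathlib
import Cfsg.Agent.SLMult.Relations
import Cfsg.Agent.SLMult.Cross
import Cfsg.Agent.UniTri.Basic
import Cfsg.Agent.ProjExt.Stem
import Cfsg.Agent.Suzuki.Multiplier

/-!
The Schur multipliers of `SL(n, q)` and `PSL(n, q)` outside the exceptional cases.
-/

set_option autoImplicit false

namespace Cfsg.Agent.SLMult

open Matrix Matrix.SpecialLinearGroup Cfsg.Agent.Classical
open scoped commutatorElement MatrixGroups

universe u

variable {F : Type u} [Field F] [Fintype F]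

/-- Package a matrix of determinant one. -/
def toSL2 (M : Matrix (Fin 2) (Fin 2) F) (h : M.det = 1) : SL(2, F) := ⟨M, h⟩

omit [Fintype F] in
theorem coe_toSL2 (M : Matrix (Fin 2) (Fin 2) F) (h : M.det = 1) : (toSL2 M h).1 = M := rfl

theorem tx_pow {ι : Type*} [Fintype ι] [DecidableEq ι] {i j : ι} (h : i ≠ j) (N : ℕ) (x : F) :
    tx (ι := ι) i j x ^ N = tx i j (N * x) := by
  induction N with
  | zero => simp [tx_zero]
  | succ N ih => rw [pow_succ, ih, ← tx_add h]; congr 1; push_cast; ring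

theorem mem_unitri_two {g : SL(2, F)} (hg : g ∈ UniTri.unitri 2 F) :
    ∃ b, g = tx 0 1 b := by
  refine ⟨g.1 0 1, Subtype.ext (Matrix.ext fun r l => ?_)⟩
  obtain ⟨h1, h2⟩ := UniTri.mem_unitri.1 hg
  rw [tx_eq (show (0 : Fin 2) ≠ 1 by decide), transvection_coe]
  fin_cases r <;> fin_cases l <;> simp [h1 1 0 (by decide), h2]

/-- Either the field is prime, or it has a useful pair of squares. -/
theorem field_cases (h4 : Fintype.card F ≠ 4) (h9 : Fintype.card F ≠ 9) :
    (∀ a : F, ∃ k : ℕ, (k : F) = a) ∨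
      ∃ x y : F, x ≠ 0 ∧ y ≠ 0 ∧ 1 + x ^ 2 = y ^ 2 ∧ x ^ 4 + x ^ 2 + 1 ≠ 0 := by
  classical
  obtain ⟨n, hp, hcard⟩ := FiniteField.card F (ringChar F)
  by_cases hn : (n : ℕ) = 1
  · left
    intro a
    have : Fact (ringChar F).Prime := ⟨hp⟩
    rw [hn, pow_one] at hcard
    let f := ZMod.castHom (dvd_refl (ringChar F)) F
    have hb : Function.Bijective f := by
      rw [Fintype.bijective_iff_injective_and_card]
      exact ⟨f.injective, by rw [ZMod.card, hcard]⟩
    obtain ⟨k, rfl⟩ := hb.2 a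
    exact ⟨k.val, by rw [← map_natCast f, ZMod.natCast_rightInverse k]⟩
  right
  have hn2 : 2 ≤ (n : ℕ) := by have := n.pos; omega
  have hroot : ∀ (P : Polynomial F), P ≠ 0 → P.natDegree < Fintype.card F → ∃ a, P.eval a ≠ 0 := by
    intro P hP hd
    by_contra hcon
    push Not at hcon
    exact hP (Polynomial.eq_zero_of_natDegree_lt_card_of_eval_eq_zero P
      (f := fun a : F => a) Function.injective_id hcon hd)
  by_cases h2 : (2 : F) = 0
  · have hc5 : 4 < Fintype.card F := by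
      have : ringChar F ∣ 2 := (ringChar.spec F 2).mp (by exact_mod_cast h2)
      have h := (Nat.prime_dvd_prime_iff_eq hp Nat.prime_two).mp this
      rw [h] at hcard
      have : 2 ^ 2 ≤ 2 ^ (n : ℕ) := Nat.pow_le_pow_right (by norm_num) hn2
      omega
    open Polynomial in
    obtain ⟨x, hx⟩ := hroot (X * (X + 1) * (X ^ 2 + X + 1))
      (mul_ne_zero (mul_ne_zero X_ne_zero (by simpa using X_add_C_ne_zero (1 : F)))
        (Monic.ne_zero (by monicity!)))
      (lt_of_le_of_lt (by compute_degree!) hc5)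
    simp only [Polynomial.eval_mul, Polynomial.eval_X, Polynomial.eval_add, Polynomial.eval_one,
      Polynomial.eval_pow, mul_ne_zero_iff] at hx
    refine ⟨x, 1 + x, hx.1.1, by rw [add_comm]; exact hx.1.2, by linear_combination -x * h2, ?_⟩
    rw [show x ^ 4 + x ^ 2 + 1 = (x ^ 2 + x + 1) ^ 2 by linear_combination (-(x ^ 3 + x ^ 2 + x)) * h2]
    exact pow_ne_zero _ hx.2
  · have hc13 : 13 < Fintype.card F := by
      have h3 : 3 ≤ ringChar F := by
        have := hp.two_le
        rcases this.lt_or_eq with h | h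
        · omega
        · exact absurd (by exact_mod_cast (ringChar.spec F 2).mpr (by rw [h])) h2
      rcases eq_or_ne (n : ℕ) 2 with hn' | hn'
      · rw [hn'] at hcard
        rcases eq_or_ne (ringChar F) 3 with h | h
        · rw [h] at hcard; omega
        · rcases eq_or_ne (ringChar F) 4 with h' | h'
          · rw [h'] at hp; exact absurd hp (by decide)
          · have : 5 ^ 2 ≤ ringChar F ^ 2 := Nat.pow_le_pow_left (by omega) 2
            omega
      · have : 3 ^ 3 ≤ ringChar F ^ (n : ℕ) :=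
          le_trans (Nat.pow_le_pow_left h3 3) (Nat.pow_le_pow_right (by omega) (by omega))
        omega
    open Polynomial in
    obtain ⟨m, hm⟩ := hroot (X * (X ^ 2 - 1) * (X ^ 2 + 1) *
        ((X ^ 2 - 1) ^ 4 + (X ^ 2 - 1) ^ 2 * (C 2 * X) ^ 2 + (C 2 * X) ^ 4))
      (mul_ne_zero (mul_ne_zero (mul_ne_zero X_ne_zero (Monic.ne_zero (by monicity!)))
        (Monic.ne_zero (by monicity!))) (Monic.ne_zero (by monicity!)))
      (lt_of_le_of_lt (by compute_degree!) hc13)
    simp only [Polynomial.eval_mul, Polynomial.eval_X, Polynomial.eval_add, Polynomial.eval_sub,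
      Polynomial.eval_one, Polynomial.eval_pow, Polynomial.eval_C, mul_ne_zero_iff] at hm
    obtain ⟨⟨⟨hm0, hm1⟩, hm2⟩, hm4⟩ := hm
    have h2m : (2 : F) * m ≠ 0 := mul_ne_zero h2 hm0
    refine ⟨(m ^ 2 - 1) / (2 * m), (m ^ 2 + 1) / (2 * m), div_ne_zero hm1 h2m, div_ne_zero hm2 h2m,
      by field_simp; ring, fun h => hm4 ?_⟩
    field_simp at h
    linear_combination h

theorem pairing_zero {M : Type*} [Group M] (B : F → F → M)
    (hl : ∀ a a' b, B (a + a') b = B a b * B a' b) (hr : ∀ a b b', B a (b + b') = B a b * B a b')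
    (hd : ∀ a, B a a = 1) (hs : ∀ s a b, s ≠ 0 → B (s ^ 2 * a) (s ^ 2 * b) = B a b)
    (h4 : Fintype.card F ≠ 4) (h9 : Fintype.card F ≠ 9) (a b : F) : B a b = 1 := by
  have h0l : ∀ b, B 0 b = 1 := fun b => by
    have := hl 0 0 b; rw [add_zero] at this; exact left_eq_mul.mp this
  have h0r : ∀ a, B a 0 = 1 := fun a => by
    have := hr a 0 0; rw [add_zero] at this; exact left_eq_mul.mp this
  rcases field_cases h4 h9 with hN | ⟨x, y, hx, hy, hxy, h3⟩
  · have h1 : ∀ k : ℕ, B 1 k = 1 := by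
      intro k
      induction k with
      | zero => rw [Nat.cast_zero, h0r]
      | succ k ih => rw [Nat.cast_succ, hr, ih, hd, one_mul]
    have h2 : ∀ (l : ℕ) (c : F), B l c = 1 := by
      intro l c
      obtain ⟨k, rfl⟩ := hN c
      induction l with
      | zero => rw [Nat.cast_zero, h0l]
      | succ l ih => rw [Nat.cast_succ, hl, ih, h1, one_mul]
    obtain ⟨l, rfl⟩ := hN a
    exact h2 l b
  have key : ∀ a s, s ≠ 0 → B a (s ^ 2) = B (a / s ^ 2) 1 := fun a s hs0 => by
    rw [← hs s (a / s ^ 2) 1 hs0, mul_div_cancel₀ a (pow_ne_zero 2 hs0), mul_one]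
  have hne : 1 / y ^ 2 - 1 - 1 / x ^ 2 ≠ 0 := by
    intro h
    field_simp at h
    rw [← hxy] at h
    apply h3
    linear_combination -h
  have hphi : ∀ a, B a 1 = 1 := by
    intro a
    set c := a / (1 / y ^ 2 - 1 - 1 / x ^ 2)
    have e1 : B (c / y ^ 2) 1 = B (c + c / x ^ 2) 1 := by
      rw [← key c y hy, ← hxy, hr, hl, key c x hx]
    have e2 : c / y ^ 2 = a + (c + c / x ^ 2) := by
      have : a = c * (1 / y ^ 2 - 1 - 1 / x ^ 2) := by rw [div_mul_cancel₀ _ hne]
      rw [this]; ring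
    rw [e2, hl] at e1
    exact mul_eq_right.mp e1
  have hsq : ∀ a s, B a (s ^ 2) = 1 := fun a s => by
    rcases eq_or_ne s 0 with rfl | hs0
    · simpa using h0r a
    · rw [key a s hs0, hphi]
  by_cases h2 : (2 : F) = 0
  · have hch : ringChar F = 2 := by
      have : ringChar F ∣ 2 := (ringChar.spec F 2).mp (by exact_mod_cast h2)
      exact (Nat.prime_dvd_prime_iff_eq (CharP.char_is_prime F (ringChar F)) Nat.prime_two).mp this
    obtain ⟨s, rfl⟩ := FiniteField.isSquare_of_char_two hch b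
    rw [← pow_two, hsq]
  · have hb : ((b - 1) / 2) ^ 2 + b = ((b + 1) / 2) ^ 2 := by field_simp; ring
    have := hr a (((b - 1) / 2) ^ 2) b
    rw [hb, hsq, hsq, one_mul] at this
    exact this.symm

variable {Γ : Type u} [Group Γ] [Finite Γ]

/-- The prime order case for `SL(2, F)`. -/
theorem sl2_prime (h4 : Fintype.card F ≠ 4) (h9 : Fintype.card F ≠ 9) (σ : Γ →* SL(2, F))
    (hs : Cfsg.IsStemExtension σ) {r : ℕ} (hr : r.Prime) (hk : Nat.card σ.ker = r) : False := by
  classical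
  have := Fact.mk hr
  have hp : Fact (ringChar F).Prime := ⟨CharP.char_is_prime F _⟩
  obtain ⟨⟨z, hz⟩, hzo⟩ := exists_prime_orderOf_dvd_card' (G := σ.ker) r (hk ▸ dvd_rfl)
  rw [Subgroup.orderOf_mk] at hzo
  have hz1 : z ≠ 1 := fun e => hr.ne_one (by rw [← hzo, e, orderOf_one])
  by_cases hrp : r = ringChar F
  swap
  · exact hz1 (cross_notMem hrp σ hs.1 hs.2.1 hk hz (Subgroup.mem_sup_left (hs.2.2 hz)))
  subst hrp
  obtain ⟨P, hP⟩ := UniTri.exists_sylow (n := 2) (K := F) (ringChar F)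
  set Pre := (UniTri.unitri 2 F).comap σ
  have h01 : (0 : Fin 2) ≠ 1 := by decide
  obtain ⟨hl, hrr⟩ := Br_comm_add hs.1 hs.2.1 h01 h01 h01.symm h01
  have hB : ∀ a b, Br hs.1 (0 : Fin 2) 1 0 1 a b = 1 := by
    refine pairing_zero _ hl hrr (fun a => commutatorElement_self _) (fun s a b hs0 => ?_) h4 h9
    exact Br_scale hs.1 hs.2.1 h01 h01 h01.symm h01 (diag2n_dd h01 hs0)
      (by simp [dd]; field_simp) (by simp [dd]; field_simp)
  letI : CommGroup Pre :=
    { (inferInstance : Group Pre) with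
      mul_comm := fun ⟨v, hv⟩ ⟨w, hw⟩ => by
        obtain ⟨a, ha⟩ := mem_unitri_two (show σ v ∈ UniTri.unitri 2 F from hv)
        obtain ⟨b, hb⟩ := mem_unitri_two (show σ w ∈ UniTri.unitri 2 F from hw)
        refine Subtype.ext (commutatorElement_eq_one_iff_commute.mp ?_)
        rw [br_indep hs.2.1 (A' := lift σ hs.1 (tx 0 1 a)) (B' := lift σ hs.1 (tx 0 1 b))
          (by rw [lift_spec, ha]) (by rw [lift_spec, hb])]
        exact hB a b }
  refine Suzuki.transfer_kills (p := ringChar F) Pre ?_ (MonoidHom.id Pre) (hs.2.1 hz) (hs.2.2 hz)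
    (show σ z ∈ UniTri.unitri 2 F by rw [show σ z = 1 from hz]; exact one_mem _)
    (fun e => hz1 (congrArg Subtype.val e)) (hzo ▸ pow_orderOf_eq_one z)
  rw [Subgroup.index_comap_of_surjective _ hs.1, ← hP]
  exact P.not_dvd_index

section Block

variable {n : ℕ} {σ : Γ →* SpecialLinearGroup (Fin n) F} (Φ : Sys σ) {i j : Fin n} (hij : i ≠ j)

/-- The matrix of an element of a rank one piece. -/
def blockMat (σ : Γ →* SpecialLinearGroup (Fin n) F) (i j : Fin n) (x : Γ) : Matrix (Fin 2) (Fin 2) F :=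
  !![Sys.act σ x (Sys.e i) i, Sys.act σ x (Sys.e j) i;
    Sys.act σ x (Sys.e i) j, Sys.act σ x (Sys.e j) j]

include hij in
omit [Fintype F] [Finite Γ] in
theorem block_dec {x : Γ} (hx : x ∈ Φ.E {i, j}) {c : Fin n} (hc : c = i ∨ c = j) :
    Sys.act σ x (Sys.e c) =
      Sys.act σ x (Sys.e c) i • Sys.e i + Sys.act σ x (Sys.e c) j • Sys.e j := by
  funext t
  by_cases hti : t = i
  · subst hti; simp [Sys.e, hij]
  by_cases htj : t = j
  · subst htj; simp [Sys.e, hti]
  rw [(Φ.supp hx).1 t (by simp [hti, htj])]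
  rcases hc with rfl | rfl <;> simp [Sys.e, hti, htj]

omit [Fintype F] [Finite Γ] in
include hij in
theorem blockMat_mul {x y : Γ} (hy : y ∈ Φ.E {i, j}) :
    blockMat σ i j (x * y) = blockMat σ i j x * blockMat σ i j y := by
  unfold blockMat
  rw [Sys.act_mul, Sys.act_mul, block_dec Φ hij hy (Or.inl rfl), block_dec Φ hij hy (Or.inr rfl)]
  ext u v
  fin_cases u <;> fin_cases v <;>
    simp [Sys.act_add, Sys.act_smul, Matrix.mul_apply, Fin.sum_univ_two, Sys.e, hij, hij.symm] <;> ring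

/-- The map of a rank one piece onto `SL(2, F)`. -/
def blockHom : Φ.E {i, j} →* SL(2, F) :=
  MonoidHom.mk' (fun x => toSL2 (blockMat σ i j (x : Γ)) (by
    rw [blockMat, Matrix.det_fin_two_of]; exact Φ.block_det x.2 hij))
    (fun x y => Subtype.ext (blockMat_mul Φ hij y.2))

omit [Fintype F] [Finite Γ] in
theorem coe_blockHom (x : Φ.E {i, j}) : (blockHom Φ hij x).1 = blockMat σ i j (x : Γ) := rfl

omit [Fintype F] [Finite Γ] in
theorem blockHom_surjective : Function.Surjective (blockHom Φ hij) := by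
  rw [← MonoidHom.range_eq_top]
  refine sl_eq_top_of_transvection _ fun u v huv c => ?_
  fin_cases u <;> fin_cases v
  · exact absurd rfl huv
  · refine ⟨⟨Φ.X i j c, Φ.X_mem_E (by simp) (by simp) hij c⟩, Subtype.ext ?_⟩
    rw [coe_blockHom, blockMat, Φ.act_X hij, Φ.act_X hij, transvection_coe]
    ext a b
    fin_cases a <;> fin_cases b <;> simp [Sys.e, hij, hij.symm]
  · refine ⟨⟨Φ.X j i c, Φ.X_mem_E (by simp) (by simp) hij.symm c⟩, Subtype.ext ?_⟩
    rw [coe_blockHom, blockMat, Φ.act_X hij.symm, Φ.act_X hij.symm, transvection_coe]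
    ext a b
    fin_cases a <;> fin_cases b <;> simp [Sys.e, hij, hij.symm]
  · exact absurd rfl huv

omit [Fintype F] [Finite Γ] in
theorem blockHom_eq_one (x : Φ.E {i, j}) : blockHom Φ hij x = 1 ↔ σ x = 1 := by
  constructor
  · intro hx
    have hm : blockMat σ i j (x : Γ) = 1 := congrArg Subtype.val hx
    have h00 := congrFun (congrFun hm 0) 0
    have h01 := congrFun (congrFun hm 0) 1
    have h10 := congrFun (congrFun hm 1) 0
    have h11 := congrFun (congrFun hm 1) 1
    simp [blockMat] at h00 h01 h10 h11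
    refine Sys.eq_one_of_act fun c => ?_
    by_cases hci : c = i
    · subst hci; rw [block_dec Φ hij x.2 (Or.inl rfl), h00, h10]; simp
    by_cases hcj : c = j
    · subst hcj; rw [block_dec Φ hij x.2 (Or.inr rfl), h01, h11]; simp
    exact (Φ.supp x.2).2 c (by simp [hci, hcj])
  · intro hx
    refine Subtype.ext ?_
    show blockMat σ i j (x : Γ) = 1
    simp only [blockMat, Sys.act, hx, Matrix.SpecialLinearGroup.coe_one, Matrix.one_mulVec]
    ext u v
    fin_cases u <;> fin_cases v <;> simp [Sys.e, hij, hij.symm]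

include hij in
/-- A rank one piece meets the kernel trivially in cross characteristic. -/
theorem rank_one (hs : Cfsg.IsStemExtension σ) {r : ℕ} (hr : r.Prime) (hk : Nat.card σ.ker = r)
    (hrp : r ≠ ringChar F) : ∀ g ∈ Φ.E {i, j}, σ g = 1 → g = 1 := by
  intro g hg hg1
  have := Fact.mk hr
  have hp : Fact (ringChar F).Prime := ⟨CharP.char_is_prime F _⟩
  by_contra hgne
  set H := Φ.E {i, j}
  set τ := blockHom Φ hij
  have hτker : ∀ x : H, x ∈ τ.ker ↔ σ x = 1 := fun x => blockHom_eq_one Φ hij x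
  have hτc : τ.ker ≤ Subgroup.center H := fun x hx => Subgroup.mem_center_iff.mpr fun y =>
    Subtype.ext (Subgroup.mem_center_iff.mp (hs.2.1 ((hτker x).mp hx)) y)
  have hgk : (⟨g, hg⟩ : H) ∈ τ.ker := (hτker _).mpr hg1
  have hsub : τ.ker.map H.subtype ≤ σ.ker := by
    rintro _ ⟨x, hx, rfl⟩
    exact (hτker x).mp hx
  have hkc : Nat.card τ.ker = r := by
    have h1 := Subgroup.card_dvd_of_le hsub
    rw [Subgroup.card_map_of_injective H.subtype_injective, hk] at h1
    refine ((Nat.dvd_prime hr).mp h1).resolve_left fun h => ?_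
    rw [Subgroup.card_eq_one] at h
    rw [h, Subgroup.mem_bot] at hgk
    exact hgne (congrArg Subtype.val hgk)
  refine hgne (congrArg Subtype.val
    (cross_notMem hrp τ (blockHom_surjective Φ hij) hτc hkc hgk ?_))
  refine Subgroup.mem_sup_right ?_
  have hclo : Subgroup.closure {x : H | x ^ ringChar F = 1} = ⊤ := by
    rw [eq_top_iff]
    refine le_of_eq_of_le (Subgroup.closure_closure_coe_preimage (k := Φ.gens {i, j})).symm ?_
    refine Subgroup.closure_mono fun x hx => ?_
    obtain ⟨u, _, v, _, huv, a, ha⟩ := hx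
    show x ^ ringChar F = 1
    refine Subtype.ext ?_
    rw [SubgroupClass.coe_pow, Subgroup.coe_one, show (x : Γ) = _ from ha]
    have hpow : ∀ N : ℕ, Φ.X u v a ^ N = Φ.X u v (N * a) := by
      intro N
      induction N with
      | zero => simp [Φ.zero huv]
      | succ N ih => rw [pow_succ, ih, ← Φ.add huv]; congr 1; push_cast; ring
    rw [hpow, CharP.cast_eq_zero, zero_mul, Φ.zero huv]
  rw [hclo]
  exact Subgroup.mem_top _

end Block

/-- The prime order case for `SL(n, F)`, `n ≥ 3`. -/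
theorem sln_prime {n : ℕ} (hG : Good (Fin n) F) (σ : Γ →* SpecialLinearGroup (Fin n) F)
    (hs : Cfsg.IsStemExtension σ) {r : ℕ} (hr : r.Prime) (hk : Nat.card σ.ker = r) : False := by
  classical
  have := Fact.mk hr
  have hp : Fact (ringChar F).Prime := ⟨CharP.char_is_prime F _⟩
  obtain ⟨⟨z, hz⟩, hzo⟩ := exists_prime_orderOf_dvd_card' (G := σ.ker) r (hk ▸ dvd_rfl)
  rw [Subgroup.orderOf_mk] at hzo
  have hz1 : z ≠ 1 := fun e => hr.ne_one (by rw [← hzo, e, orderOf_one])
  obtain ⟨Φ⟩ := exists_sys hs.1 hs.2.1 hG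
  have hzeq : σ z = 1 := hz
  by_cases hrp : r = ringChar F
  · subst hrp
    obtain ⟨P, hP⟩ := UniTri.exists_sylow (n := n) (K := F) (ringChar F)
    set U := UniTri.unitri n F
    set S := Subgroup.closure {x | ∃ i ∈ (Finset.univ : Finset (Fin n)),
      ∃ j ∈ (Finset.univ : Finset (Fin n)), i < j ∧ ∃ a, x = Φ.X i j a}
    have hSU : S.map σ ≤ U := by
      rw [MonoidHom.map_closure, Subgroup.closure_le]
      rintro _ ⟨_, ⟨i, -, j, -, hij, a, rfl⟩, rfl⟩
      rw [Φ.map hij.ne]
      exact UniTri.tv_mem hij a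
    have hUS : U ≤ S.map σ := UniTri.unitri_le _ fun i j hij c =>
      ⟨Φ.X i j c, Subgroup.subset_closure ⟨i, Finset.mem_univ _, j, Finset.mem_univ _, hij, c, rfl⟩,
        Φ.map hij.ne c⟩
    have hinj : ∀ g ∈ S, σ g = 1 → g = 1 := Φ.inj_upper Finset.univ
    set Pre := U.comap σ with hPre
    have hex : ∀ g : Pre, ∃ s, s ∈ S ∧ σ s = σ g := fun g => hUS g.2
    choose sec hsec using hex
    letI : CommGroup σ.ker :=
      { (inferInstance : Group σ.ker) with
        mul_comm := fun a b => Subtype.ext (Subgroup.mem_center_iff.mp (hs.2.1 b.2) a.1) }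
    let θ : Pre →* σ.ker := MonoidHom.mk'
      (fun g => ⟨(g : Γ) * (sec g)⁻¹, by
        rw [MonoidHom.mem_ker, map_mul, map_inv, (hsec g).2, mul_inv_cancel]⟩)
      (fun g h => Subtype.ext (by
        have hmul : sec (g * h) = sec g * sec h := by
          have := hinj ((sec (g * h))⁻¹ * (sec g * sec h))
            (mul_mem (inv_mem (hsec _).1) (mul_mem (hsec g).1 (hsec h).1))
            (by simp [map_mul, (hsec g).2, (hsec h).2, (hsec (g * h)).2])
          exact inv_mul_eq_one.mp this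
        have hk' : (h : Γ) * (sec h)⁻¹ ∈ σ.ker := by
          rw [MonoidHom.mem_ker, map_mul, map_inv, (hsec h).2, mul_inv_cancel]
        show ((g : Γ) * h) * (sec (g * h))⁻¹ = (g : Γ) * (sec g)⁻¹ * ((h : Γ) * (sec h)⁻¹)
        rw [hmul, mul_assoc (g : Γ) (sec g)⁻¹, Subgroup.mem_center_iff.mp (hs.2.1 hk') (sec g)⁻¹]
        group))
    refine Suzuki.transfer_kills (p := ringChar F) Pre ?_ θ (hs.2.1 hz) (hs.2.2 hz)
      (show σ z ∈ U by rw [hzeq]; exact one_mem _) (fun e => hz1 ?_) (hzo ▸ pow_orderOf_eq_one z)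
    · rw [hPre, Subgroup.index_comap_of_surjective _ hs.1, ← hP]
      exact P.not_dvd_index
    · have h1 := congrArg (fun x : σ.ker => (x : Γ)) e
      have h2 := hinj _ (hsec ⟨z, by show σ z ∈ U; rw [hzeq]; exact one_mem _⟩).1
        ((hsec _).2.trans hzeq)
      simpa [θ, h2] using h1
  -- the cross characteristic case
  have hrank : ∀ i j : Fin n, i ≠ j → ∀ g ∈ Φ.E {i, j}, σ g = 1 → g = 1 := fun i j hij =>
    rank_one Φ hij hs hr hk hrp
  have hinj := Φ.inj_E hrank Finset.univ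
  set E0 := Φ.E Finset.univ
  have htop : ∀ g : Γ, ∃ x ∈ E0, σ x = σ g := by
    intro g
    have : E0.map σ = ⊤ := sl_eq_top_of_transvection _ fun u v huv c =>
      ⟨Φ.X u v c, Φ.X_mem_E (Finset.mem_univ _) (Finset.mem_univ _) huv c, Φ.map huv c⟩
    have h : σ g ∈ E0.map σ := this ▸ Subgroup.mem_top _
    exact h
  have hcomm : commutator Γ ≤ E0 := by
    rw [commutator_def, Subgroup.commutator_le]
    intro a _ b _
    obtain ⟨a', ha', ea⟩ := htop a
    obtain ⟨b', hb', eb⟩ := htop b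
    rw [br_indep hs.2.1 ea.symm eb.symm, commutatorElement_def]
    exact mul_mem (mul_mem (mul_mem ha' hb') (inv_mem ha')) (inv_mem hb')
  exact hz1 (hinj z (hcomm (hs.2.2 hz)) hz)

theorem sl_multiplier_trivial {n : ℕ}
    (h : (n = 2 ∧ Fintype.card F ≠ 4 ∧ Fintype.card F ≠ 9) ∨ Good (Fin n) F) :
    Cfsg.HasCyclicSchurMultiplier (SpecialLinearGroup (Fin n) F) 1 := by
  refine ProjExt.Stem.hasCyclicSchurMultiplier_one fun Γ _ _ σ hσ => ?_
  by_contra hne
  obtain ⟨Γ', _, _, σ', p, hp, hs, hk⟩ := Suzuki.stem_reduce _ σ rfl hσ hne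
  rcases h with ⟨rfl, h4, h9⟩ | hG
  · exact sl2_prime h4 h9 σ' hs hp hk
  · exact sln_prime hG σ' hs hp hk

omit [Field F] [Fintype F] [Group Γ] [Finite Γ] in
/-- A perfect group with trivial multiplier controls the multiplier of its central quotients. -/
theorem lift_through_cover {S G Δ : Type u} [Group S] [Finite S] [Group G] [Group Δ] [Finite Δ]
    (hS : commutator S = ⊤) (hM : Cfsg.HasCyclicSchurMultiplier S 1) (π : S →* G)
    (hπ : Function.Surjective π) (σ : Δ →* G) (hσ : Cfsg.IsStemExtension σ) :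
    ∃ f : S →* Δ, σ.comp f = π ∧ σ.ker ≤ π.ker.map f := by
  let P : Subgroup (S × Δ) :=
    { carrier := {x | π x.1 = σ x.2}
      one_mem' := by simp
      mul_mem' := fun {a b} ha hb => by
        simp only [Set.mem_setOf_eq, Prod.fst_mul, Prod.snd_mul, map_mul] at *; rw [ha, hb]
      inv_mem' := fun {a} ha => by
        simp only [Set.mem_setOf_eq, Prod.fst_inv, Prod.snd_inv, map_inv] at *; rw [ha] }
  let q : P →* S := (MonoidHom.fst S Δ).comp P.subtype
  have hq : Function.Surjective q := fun s => by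
    obtain ⟨d, hd⟩ := hσ.1 (π s)
    exact ⟨⟨(s, d), hd.symm⟩, rfl⟩
  have hqc : q.ker ≤ Subgroup.center P := fun x hx => Subgroup.mem_center_iff.mpr fun y => by
    have h1 : (x : S × Δ).1 = 1 := hx
    have h2 : σ (x : S × Δ).2 = 1 := by rw [← (x.2 : π _ = σ _), h1, map_one]
    refine Subtype.ext (Prod.ext ?_ (Subgroup.mem_center_iff.mp (hσ.2.1 h2) (y : S × Δ).2))
    show (y : S × Δ).1 * (x : S × Δ).1 = (x : S × Δ).1 * (y : S × Δ).1
    rw [h1, mul_one, one_mul]
  set D := commutator P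
  let qD : D →* S := q.comp D.subtype
  have hDs : Function.Surjective qD := fun s => by
    have h : s ∈ D.map q := by
      rw [show D = commutator P from rfl, commutator_def, Subgroup.map_commutator,
        Subgroup.map_top_of_surjective q hq, ← commutator_def, hS]
      exact Subgroup.mem_top _
    obtain ⟨d, hd, e⟩ := h
    exact ⟨⟨d, hd⟩, e⟩
  have hperf : D ≤ (commutator D).map D.subtype := by
    show commutator P ≤ _
    rw [commutator_def, Subgroup.commutator_le]
    intro a _ b _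
    obtain ⟨a', ha'⟩ := hDs (q a)
    obtain ⟨b', hb'⟩ := hDs (q b)
    refine ⟨⁅a', b'⁆, ?_, ?_⟩
    · rw [commutator_def]; exact Subgroup.commutator_mem_commutator (Subgroup.mem_top _) (Subgroup.mem_top _)
    · rw [map_commutatorElement]
      obtain ⟨u, hu, rfl⟩ : ∃ u, q u = 1 ∧ a = (a' : P) * u :=
        ⟨(a' : P)⁻¹ * a, by rw [map_mul, map_inv, show q (a' : P) = q a from ha', inv_mul_cancel],
          (mul_inv_cancel_left _ _).symm⟩
      obtain ⟨v, hv, rfl⟩ : ∃ v, q v = 1 ∧ b = (b' : P) * v :=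
        ⟨(b' : P)⁻¹ * b, by rw [map_mul, map_inv, show q (b' : P) = q b from hb', inv_mul_cancel],
          (mul_inv_cancel_left _ _).symm⟩
      have cu := Subgroup.mem_center_iff.mp (hqc hu)
      have cv := Subgroup.mem_center_iff.mp (hqc hv)
      simp only [commutatorElement_def, Subgroup.coe_subtype, _root_.mul_inv_rev]
      calc (a' : P) * b' * (a' : P)⁻¹ * (b' : P)⁻¹
          = (a' : P) * ((b' : P) * v) * (a' : P)⁻¹ * (v⁻¹ * (b' : P)⁻¹) := by
            rw [show (a' : P) * ((b' : P) * v) * (a' : P)⁻¹ * (v⁻¹ * (b' : P)⁻¹) =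
              (a' : P) * (b' : P) * (v * (a' : P)⁻¹) * v⁻¹ * (b' : P)⁻¹ by group, ← cv]
            simp [mul_assoc]
        _ = (a' : P) * (u * ((b' : P) * v)) * (u⁻¹ * (a' : P)⁻¹) * (v⁻¹ * (b' : P)⁻¹) := by
            rw [← cu]; group
        _ = _ := by group
  have hstem : Cfsg.IsStemExtension qD :=
    ⟨hDs, fun x hx => Subgroup.mem_center_iff.mpr fun y =>
      Subtype.ext (Subgroup.mem_center_iff.mp (hqc hx) y), fun x _ => by
      obtain ⟨y, hy, e⟩ := hperf x.2
      rwa [← show y = x from Subtype.ext e]⟩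
  have hbot := ProjExt.Stem.ker_eq_bot_of_trivial hM D qD hstem
  let eq := MulEquiv.ofBijective qD ⟨(MonoidHom.ker_eq_bot_iff qD).mp hbot, hDs⟩
  let f : S →* Δ := ((MonoidHom.snd S Δ).comp (P.subtype.comp D.subtype)).comp eq.symm.toMonoidHom
  have hf : ∀ s, σ (f s) = π s := fun s => by
    have h1 : ((eq.symm s : P) : S × Δ).1 = s := eq.apply_symm_apply s
    have h2 : π ((eq.symm s : P) : S × Δ).1 = σ ((eq.symm s : P) : S × Δ).2 := (eq.symm s : P).2
    rw [h1] at h2
    exact h2.symm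
  refine ⟨f, MonoidHom.ext hf, fun x hx => ?_⟩
  have hle : commutator Δ ≤ f.range := by
    rw [commutator_def, Subgroup.commutator_le]
    intro a _ b _
    obtain ⟨s, hs⟩ := hπ (σ a)
    obtain ⟨t, ht⟩ := hπ (σ b)
    refine ⟨⁅s, t⁆, ?_⟩
    rw [map_commutatorElement]
    obtain ⟨u, hu, rfl⟩ : ∃ u, σ u = 1 ∧ a = f s * u :=
      ⟨(f s)⁻¹ * a, by rw [map_mul, map_inv, hf, hs, inv_mul_cancel], (mul_inv_cancel_left _ _).symm⟩
    obtain ⟨v, hv, rfl⟩ : ∃ v, σ v = 1 ∧ b = f t * v :=
      ⟨(f t)⁻¹ * b, by rw [map_mul, map_inv, hf, ht, inv_mul_cancel], (mul_inv_cancel_left _ _).symm⟩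
    have cu := Subgroup.mem_center_iff.mp (hσ.2.1 hu)
    have cv := Subgroup.mem_center_iff.mp (hσ.2.1 hv)
    simp only [commutatorElement_def, _root_.mul_inv_rev]
    calc f s * f t * (f s)⁻¹ * (f t)⁻¹
        = f s * (f t * v) * (f s)⁻¹ * (v⁻¹ * (f t)⁻¹) := by
          rw [show f s * (f t * v) * (f s)⁻¹ * (v⁻¹ * (f t)⁻¹) =
            f s * f t * (v * (f s)⁻¹) * v⁻¹ * (f t)⁻¹ by group, ← cv]
          simp [mul_assoc]
      _ = f s * (u * (f t * v)) * (u⁻¹ * (f s)⁻¹) * (v⁻¹ * (f t)⁻¹) := by rw [← cu]; group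
      _ = _ := by group
  obtain ⟨s, rfl⟩ := hle (hσ.2.2 hx)
  exact ⟨s, show π s = 1 by rw [← hf]; exact hx, rfl⟩

omit [Group Γ] [Finite Γ] in
theorem psl_multiplier {n : ℕ} (hn : 2 ≤ n)
    (hperf : commutator (SpecialLinearGroup (Fin n) F) = ⊤)
    (hM : Cfsg.HasCyclicSchurMultiplier (SpecialLinearGroup (Fin n) F) 1) :
    Cfsg.HasCyclicSchurMultiplier (ProjectiveSpecialLinearGroup (Fin n) F)
      (Nat.gcd n (Fintype.card F - 1)) := by
  have : Nonempty (Fin n) := ⟨⟨0, by omega⟩⟩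
  set S := SpecialLinearGroup (Fin n) F
  let π : S →* ProjectiveSpecialLinearGroup (Fin n) F := QuotientGroup.mk' (Subgroup.center S)
  have hπs : Function.Surjective π := QuotientGroup.mk'_surjective _
  have hπk : π.ker = Subgroup.center S := QuotientGroup.ker_mk' _
  have hcyc : IsCyclic (Subgroup.center S) :=
    (center_equiv_rootsOfUnity' (Classical.arbitrary (Fin n))).isCyclic.mpr inferInstance
  have hcard : Nat.card (Subgroup.center S) = Nat.gcd n (Fintype.card F - 1) := by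
    simpa using card_center_sl (ι := Fin n) (F := F)
  refine ProjExt.Stem.hasCyclicSchurMultiplier_of π
    ⟨hπs, hπk.le, by rw [hperf]; exact le_top⟩ ((MulEquiv.subgroupCongr hπk).trans ?_) ?_
  · exact hcard ▸ (zmodCyclicMulEquiv hcyc).symm
  intro Δ _ _ σ hσ
  obtain ⟨c, hc⟩ := hcyc.exists_generator
  obtain ⟨f, hf, hle⟩ := lift_through_cover hperf hM π hπs σ hσ
  refine ⟨f c, ?_, fun x hx => ?_, ?_⟩
  · show σ (f c) = 1
    rw [show σ (f c) = π (c : S) from DFunLike.congr_fun hf (c : S)]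
    exact MonoidHom.mem_ker.mp (hπk.symm ▸ c.2)
  · obtain ⟨s, hs, rfl⟩ := hle hx
    rw [hπk] at hs
    obtain ⟨j, hj⟩ := hc ⟨s, hs⟩
    refine ⟨j, ?_⟩
    show f c ^ j = f s
    rw [← map_zpow, ← Subgroup.coe_zpow, show c ^ j = ⟨s, hs⟩ from hj]
  · rw [← map_pow, ← hcard, ← Subgroup.coe_pow, pow_card_eq_one', Subgroup.coe_one, map_one]

end Cfsg.Agent.SLMult
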