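import Cfsg.Agent.SLMult.L34Chain
import Cfsg.Agent.SLMult.L34Check
import Cfsg.Agent.Classical.LinearBasic
import Cfsg.Agent.SL34.Basic
import Cfsg.Prelude.Def_KGroupFacts

/-!
The Schur multiplier of PSL(3,4) is Z3 × Z4 × Z4: a certificate on the 21 points of the plane bounds
every stem extension, and a cover acts on 63 + 224 + 224 points.
-/

set_option autoImplicit false
set_option maxHeartbeats 2000000
set_option maxRecDepth 100000

universe u

namespace Cfsg.Agent.SLMult.L34

open Cfsg Cfsg.Agent.Compute Cfsg.Agent.StemCert Matrix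
open scoped commutatorElement LinearAlgebra.Projectivization

/-- The product in the field of four elements, on codes. -/
noncomputable def mulC (a b : ℕ) : ℕ := getField 2 0x9C78E400 (Nat.add (Nat.mul 4 a) b)

/-- A scalar multiple of a vector code. -/
noncomputable def smulC (a c : ℕ) : ℕ :=
  Nat.add (mulC a (getField 2 c 0)) (Nat.add (Nat.mul 4 (mulC a (getField 2 c 1)))
    (Nat.mul 16 (mulC a (getField 2 c 2))))

/-- A transvection on vector codes. -/
noncomputable def tvImg (t x : ℕ) : ℕ :=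
  let p := tvList.getD t (0, 0, 0)
  Nat.xor x (Nat.shiftLeft (mulC p.2.2 (getField 2 x p.2.1)) (Nat.mul 2 p.1))

/-- A product of transvections on vector codes. -/
noncomputable def tvApp (wd : List ℕ) (x : ℕ) : ℕ :=
  List.rec (motive := fun _ => ℕ) x (fun t _ y => tvImg t y) wd

theorem gens_ok : allBelow 5 (fun s => allB (fun t => Nat.blt t 18) (tvWords.getD s []) &&
    allBelow 21 (fun p =>
      Nat.blt 0 (tvApp (tvWords.getD s []) (getField 6 ptCode p)) &&
      Nat.blt (tvApp (tvWords.getD s []) (getField 6 ptCode p)) 64 &&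
      Nat.beq (getField 5 clsCode (Nat.sub (tvApp (tvWords.getD s []) (getField 6 ptCode p)) 1))
        (getField 5 (codes.getD s 0) p))) = true := by decide +kernel

theorem cls_ok : allBelow 63 (fun q => Nat.blt (getField 5 clsCode q) 21 &&
    Nat.blt 0 (getField 2 scaCode q) &&
    Nat.beq (Nat.add q 1) (smulC (getField 2 scaCode q) (getField 6 ptCode (getField 5 clsCode q))))
      = true := by decide +kernel

theorem pts_ok : allBelow 21 (fun p => Nat.blt 0 (getField 6 ptCode p) &&
    Nat.beq (getField 5 clsCode (Nat.sub (getField 6 ptCode p) 1)) p) = true := by decide +kernel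

theorem tvList_ok : allBelow 18 (fun t => Nat.blt (tvList.getD t (0, 0, 0)).1 3 &&
    Nat.blt (tvList.getD t (0, 0, 0)).2.1 3 &&
    !Nat.beq (tvList.getD t (0, 0, 0)).1 (tvList.getD t (0, 0, 0)).2.1) = true := by decide +kernel

/-- The code of a product of commutators of lifts. -/
noncomputable def commCode (l : List (ℕ × ℕ)) : ℕ :=
  List.rec (motive := fun _ => ℕ) (idCode 9 511)
    (fun p _ r => compCode 9 511
      (compCode 9 511 (compCode 9 511 (compCode 9 511 (lifts.getD p.1 0) (lifts.getD p.2 0))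
        (liftInvs.getD p.1 0)) (liftInvs.getD p.2 0)) r) l

theorem cover_codes : allBelow 5 (fun s => memB (lifts.getD s 0) (topGens coverChain) &&
    codePermB 9 511 (lifts.getD s 0) && codePermB 9 511 (liftInvs.getD s 0) &&
    Nat.beq (compCode 9 511 (liftInvs.getD s 0) (lifts.getD s 0)) (idCode 9 511) &&
    allBelow 63 (fun x => Nat.blt (getField 9 (lifts.getD s 0) x) 63 &&
      Nat.beq (getField 5 clsCode (getField 9 (lifts.getD s 0) x))
        (getField 5 (codes.getD s 0) (getField 5 clsCode x)))) = true := by decide +kernel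

theorem cent_codes : allBelow 3 (fun r => codePermB 9 511 (centCodes.getD r 0) &&
    allB (fun p => Nat.blt p.1 5 && Nat.blt p.2 5) (centPairs.getD r []) &&
    Nat.beq (commCode (centPairs.getD r [])) (centCodes.getD r 0) &&
    allBelow 5 (fun s => Nat.beq (compCode 9 511 (lifts.getD s 0) (centCodes.getD r 0))
      (compCode 9 511 (centCodes.getD r 0) (lifts.getD s 0))) &&
    allBelow 63 (fun x => Nat.blt (getField 9 (centCodes.getD r 0) x) 63 &&
      Nat.beq (getField 5 clsCode (getField 9 (centCodes.getD r 0) x)) (getField 5 clsCode x))) = true := by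
  decide +kernel

/-- A power of a central element applied to a point. -/
noncomputable def iterPt (c : ℕ) (n x : ℕ) : ℕ :=
  Nat.rec (motive := fun _ => ℕ) x (fun _ y => getField 9 c y) n

/-- A power of a code. -/
noncomputable def powCode (c n : ℕ) : ℕ :=
  Nat.rec (motive := fun _ => ℕ) (idCode 9 511) (fun _ y => compCode 9 511 c y) n

theorem cent_orders : (Nat.beq (powCode (centCodes.getD 0 0) 3) (idCode 9 511) &&
    Nat.beq (powCode (centCodes.getD 1 0) 4) (idCode 9 511) &&
    Nat.beq (powCode (centCodes.getD 2 0) 4) (idCode 9 511) &&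
    Nat.beq (getField 9 (centCodes.getD 1 0) 0) 0 && Nat.beq (getField 9 (centCodes.getD 2 0) 0) 0 &&
    Nat.beq (getField 9 (centCodes.getD 0 0) 63) 63 && Nat.beq (getField 9 (centCodes.getD 2 0) 63) 63 &&
    Nat.beq (getField 9 (centCodes.getD 0 0) 287) 287 &&
    Nat.beq (getField 9 (centCodes.getD 1 0) 287) 287 &&
    allBelow 3 (fun a => Nat.beq a 0 || !Nat.beq (iterPt (centCodes.getD 0 0) a 0) 0) &&
    allBelow 4 (fun a => Nat.beq a 0 || !Nat.beq (iterPt (centCodes.getD 1 0) a 63) 63) &&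
    allBelow 4 (fun a => Nat.beq a 0 || !Nat.beq (iterPt (centCodes.getD 2 0) a 287) 287)) = true := by
  decide +kernel

attribute [local irreducible] compCode idCode lifts liftInvs centCodes coverChain codes centPairs
  clsCode scaCode ptCode tvWords tvList

section Field

variable {F : Type u} [Field F] [Fintype F] (hF : Fintype.card F = 4)

include hF in
theorem exists_omega : ∃ w : F, w * w = w + 1 ∧ (1 : F) + 1 = 0 := by
  haveI := SL34.char_two hF
  obtain ⟨w, hw0, hw1⟩ := SL34.exists_omega hF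
  refine ⟨w, ?_, CharTwo.add_self_eq_zero 1⟩
  have h3 := SL34.cube_one hF hw0
  have : (w - 1) * (w * w + w + 1) = 0 := by linear_combination h3
  rcases mul_eq_zero.mp this with h | h
  · exact absurd (sub_eq_zero.mp h) hw1
  · have := CharTwo.add_self_eq_zero (w + 1)
    linear_combination h - this

/-- A bit as a field element. -/
def bitF (b : Bool) : F := cond b 1 0

/-- The element of a code. -/
def dec (w : F) (c : ℕ) : F := bitF (c.testBit 0) + bitF (c.testBit 1) * w

/-- The vector of a code. -/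
def decV (w : F) (c : ℕ) : Fin 3 → F := fun i => dec w (getField 2 c i)

variable (w : F) (hw : w * w = w + 1) (h2 : (1 : F) + 1 = 0)

include h2 in
theorem bitF_xor (a b : Bool) : (bitF (a ^^ b) : F) = bitF a + bitF b := by
  cases a <;> cases b <;> simp [bitF, h2]

include h2 in
theorem dec_xor (a b : ℕ) : dec w (a ^^^ b) = dec w a + dec w b := by
  simp only [dec, Nat.testBit_xor, bitF_xor h2]
  ring

include hw h2 in
theorem dec_mul {a b : ℕ} (ha : a < 4) (hb : b < 4) : dec w (mulC a b) = dec w a * dec w b := by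
  interval_cases a <;> interval_cases b <;>
    simp [dec, bitF, mulC, getField, Nat.testBit_eq_decide_div_mod_eq] <;>
    first
      | (rw [hw]; ring)
      | linear_combination -hw - w * h2
      | linear_combination -hw
      | linear_combination -hw - h2
      | linear_combination -hw - (w + 1) * h2

include hw h2 in
theorem dec_ne_zero {a : ℕ} (ha : a < 4) (h0 : a ≠ 0) : dec w a ≠ 0 := by
  intro h
  interval_cases a
  · exact h0 rfl
  all_goals simp [dec, bitF, Nat.testBit_eq_decide_div_mod_eq] at h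
  · rw [h] at hw; simp at hw
  · have : w = 1 := by linear_combination h - h2
    rw [this, mul_one] at hw
    exact one_ne_zero (α := F) (by linear_combination -hw)

include hw h2 in
theorem dec_injOn {a b : ℕ} (ha : a < 4) (hb : b < 4) (h : dec w a = dec w b) : a = b := by
  by_contra hne
  refine dec_ne_zero w hw h2 (Nat.xor_lt_two_pow (n := 2) ha hb) (fun e => hne (Nat.xor_eq_zero_iff.mp e)) ?_
  rw [dec_xor w h2, h, ← mul_two, show (2 : F) = 1 + 1 by norm_num, h2, mul_zero]

include hw h2 in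
theorem decV_smul {a c : ℕ} (ha : a < 4) :
    decV w (smulC a c) = dec w a • decV w c := by
  funext i
  have h : ∀ x, x < 4 → ∀ y, y < 4 → ∀ z, z < 4 → ∀ i : Fin 3,
      getField 2 (x + (4 * y + 16 * z)) i = ![x, y, z] i := by decide +kernel
  have hl : ∀ j, mulC a (getField 2 c j) < 4 := fun j => getField_lt _ _ _
  show dec w (getField 2 (smulC a c) i) = dec w a * dec w (getField 2 c i)
  rw [show smulC a c = mulC a (getField 2 c 0) + (4 * mulC a (getField 2 c 1)
    + 16 * mulC a (getField 2 c 2)) from rfl, h _ (hl _) _ (hl _) _ (hl _)]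
  fin_cases i <;> exact dec_mul w hw h2 ha (getField_lt _ _ _)

include hw h2 in
theorem decV_injOn {a b : ℕ} (ha : a < 64) (hb : b < 64) (h : decV w a = decV w b) : a = b := by
  have hd : ∀ c, c < 64 → c = getField 2 c 0 + (4 * getField 2 c 1 + 16 * getField 2 c 2) := by
    decide +kernel
  have he : ∀ i : Fin 3, getField 2 a i = getField 2 b i := fun i =>
    dec_injOn w hw h2 (getField_lt _ _ _) (getField_lt _ _ _) (congrFun h i)
  rw [hd a ha, hd b hb]
  simp [show getField 2 a 0 = _ from he 0, show getField 2 a 1 = _ from he 1,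
    show getField 2 a 2 = _ from he 2]

theorem decV_zero : decV w 0 = 0 := by
  funext i
  simp [decV, dec, bitF, getField]

include hw h2 in
theorem decV_ne_zero {c : ℕ} (hc : c < 64) (h0 : c ≠ 0) : decV w c ≠ 0 := fun h =>
  h0 (decV_injOn w hw h2 hc (by norm_num) (h.trans (decV_zero w).symm))

include hF hw h2 in
theorem decV_surjective (v : Fin 3 → F) : ∃ c, c < 64 ∧ decV w c = v := by
  classical
  have hb : Function.Bijective (fun c : Fin 64 => decV w c) := by
    rw [Fintype.bijective_iff_injective_and_card]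
    exact ⟨fun a b h => Fin.ext (decV_injOn w hw h2 a.2 b.2 h), by simp [hF]⟩
  obtain ⟨c, hc⟩ := hb.2 v
  exact ⟨c, c.2, hc⟩

/-- The transvection of a triple. -/
def tvOf (p : ℕ × ℕ × ℕ) : Matrix.SpecialLinearGroup (Fin 3) F :=
  ⟨if (⟨p.1 % 3, Nat.mod_lt _ (by norm_num)⟩ : Fin 3) ≠ ⟨p.2.1 % 3, Nat.mod_lt _ (by norm_num)⟩ then
      Matrix.transvection ⟨p.1 % 3, Nat.mod_lt _ (by norm_num)⟩ ⟨p.2.1 % 3, Nat.mod_lt _ (by norm_num)⟩
        (dec w p.2.2)
    else 1, by
    split
    · exact Matrix.det_transvection_of_ne _ _ (by assumption) _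
    · exact Matrix.det_one⟩

/-- A transvection. -/
noncomputable def tvec (t : ℕ) : Matrix.SpecialLinearGroup (Fin 3) F := tvOf w (tvList.getD t (0, 0, 0))

include hw h2 in
theorem transvection_decV (i j : Fin 3) {a x : ℕ} (ha : a < 4) (hx : x < 64) :
    Matrix.transvection i j (dec w a) *ᵥ decV w x =
      decV w (Nat.xor x (Nat.shiftLeft (mulC a (getField 2 x j)) (2 * (i : ℕ)))) := by
  have hfield : ∀ x, x < 64 → ∀ m, m < 4 → ∀ i k : Fin 3,
      getField 2 (Nat.xor x (Nat.shiftLeft m (2 * (i : ℕ)))) k =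
        if k = i then Nat.xor (getField 2 x k) m else getField 2 x k := by decide +kernel
  funext k
  show _ = dec w (getField 2 _ k)
  rw [hfield x hx (mulC a (getField 2 x j)) (getField_lt _ _ _) i k]
  simp only [Matrix.transvection, Matrix.add_mulVec, Matrix.one_mulVec, Pi.add_apply,
    Matrix.single_mulVec]
  split
  · rename_i hk
    subst hk
    rw [show Nat.xor (getField 2 x k) (mulC a (getField 2 x j)) =
      getField 2 x k ^^^ mulC a (getField 2 x j) from rfl, dec_xor w h2,
      dec_mul w hw h2 ha (getField_lt _ _ _)]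
    simp [decV, mul_comm]
  · rename_i hk
    simp [decV, Function.update_of_ne hk]

include hw h2 in
theorem tvec_mulVec {t : ℕ} (ht : t < 18) {x : ℕ} (hx : x < 64) :
    (tvec w t).1 *ᵥ decV w x = decV w (tvImg t x) := by
  have h := allBelow_eq_true.mp tvList_ok t ht
  have ha : ∀ t, t < 18 → (tvList.getD t (0, 0, 0)).2.2 < 4 := by decide +kernel
  have ha' := ha t ht
  suffices ∀ p : ℕ × ℕ × ℕ, (Nat.blt p.1 3 && Nat.blt p.2.1 3 && !Nat.beq p.1 p.2.1) = true → p.2.2 < 4 →
      (tvOf w p).1 *ᵥ decV w x =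
        decV w (Nat.xor x (Nat.shiftLeft (mulC p.2.2 (getField 2 x p.2.1)) (Nat.mul 2 p.1))) from
    this _ h ha'
  clear h ha'
  intro p h ha'
  unfold tvOf
  obtain ⟨i, j, a⟩ := p
  simp only [Bool.and_eq_true, Nat.blt_eq, Bool.not_eq_true', ← Bool.not_eq_true, Nat.beq_eq] at h
  obtain ⟨⟨hi, hj⟩, hij⟩ := h
  have hne : (⟨i % 3, Nat.mod_lt _ (by norm_num)⟩ : Fin 3) ≠ ⟨j % 3, Nat.mod_lt _ (by norm_num)⟩ := by
    simp only [ne_eq, Fin.ext_iff, Nat.mod_eq_of_lt hi, Nat.mod_eq_of_lt hj]
    exact hij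
  have e := transvection_decV w hw h2 (⟨i % 3, Nat.mod_lt _ (by norm_num)⟩ : Fin 3)
    ⟨j % 3, Nat.mod_lt _ (by norm_num)⟩ ha' hx
  simp only [Nat.mod_eq_of_lt hi, Nat.mod_eq_of_lt hj] at e
  show (if _ then _ else _) *ᵥ _ = _
  rw [if_pos hne]
  simpa only [Nat.mod_eq_of_lt hi, Nat.mod_eq_of_lt hj, Nat.mul_eq] using e

theorem tvImg_lt {t x : ℕ} (ht : t < 18) (hx : x < 64) : tvImg t x < 64 := by
  have h : ∀ t, t < 18 → ∀ x, x < 64 → tvImg t x < 64 := by decide +kernel
  exact h t ht x hx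

include hw h2 in
theorem evalW_mulVec : ∀ (wd : List ℕ), (∀ t ∈ wd, t < 18) → ∀ x < 64,
    tvApp wd x < 64 ∧ (evalW (tvec w) wd).1 *ᵥ decV w x = decV w (tvApp wd x)
  | [], _, x, hx => by simp [evalW, tvApp, hx]
  | t :: wd, h, x, hx => by
    obtain ⟨hl, he⟩ := evalW_mulVec wd (fun s hs => h s (by simp [hs])) x hx
    refine ⟨tvImg_lt (h t (by simp)) hl, ?_⟩
    rw [evalW_cons, Matrix.SpecialLinearGroup.coe_mul, ← Matrix.mulVec_mulVec, he,
      tvec_mulVec w hw h2 (h t (by simp)) hl]
    rfl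

theorem pt_spec (p : Fin 21) :
    0 < getField 6 ptCode p ∧ getField 5 clsCode (getField 6 ptCode p - 1) = p := by
  simpa [Nat.blt_eq] using allBelow_eq_true.mp pts_ok p p.2

/-- The numbering of the points of the plane. -/
noncomputable def pnt (p : Fin 21) : ℙ F (Fin 3 → F) :=
  Projectivization.mk F (decV w (getField 6 ptCode p))
    (decV_ne_zero w hw h2 (getField_lt _ _ _) (pt_spec p).1.ne')

include hw h2 in
theorem pnt_cls {c : ℕ} (hc : c < 64) (h0 : c ≠ 0) :
    ∃ p : Fin 21, (p : ℕ) = getField 5 clsCode (c - 1) ∧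
      Projectivization.mk F (decV w c) (decV_ne_zero w hw h2 hc h0) = pnt w hw h2 p := by
  have h := allBelow_eq_true.mp cls_ok (c - 1) (by omega)
  simp only [Bool.and_eq_true, Nat.blt_eq, Nat.beq_eq] at h
  obtain ⟨⟨hp, ha⟩, he⟩ := h
  rw [show Nat.add (c - 1) 1 = c from Nat.sub_add_cancel (Nat.one_le_iff_ne_zero.mpr h0)] at he
  refine ⟨⟨_, hp⟩, rfl, ?_⟩
  rw [pnt, Projectivization.mk_eq_mk_iff']
  refine ⟨dec w (getField 2 scaCode (c - 1)), ?_⟩
  rw [← decV_smul w hw h2 (getField_lt _ _ _), ← he]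

include hF in
theorem card_plane : Nat.card (ℙ F (Fin 3 → F)) = 21 := by
  rw [Projectivization.card_of_finrank F _ (n := 3) (by simp), Nat.card_eq_fintype_card, hF]
  rfl

/-- The points of the plane as an equivalence. -/
noncomputable def ev : Fin 21 ≃ ℙ F (Fin 3 → F) :=
  Equiv.ofBijective (pnt w hw h2) (by
    classical
    haveI : Fintype (ℙ F (Fin 3 → F)) := Fintype.ofFinite _
    rw [Fintype.bijective_iff_surjective_and_card]
    refine ⟨fun P => ?_, by rw [Fintype.card_fin, ← Nat.card_eq_fintype_card, card_plane hF]⟩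
    induction P using Projectivization.ind with
    | h v hv =>
      obtain ⟨c, hc, rfl⟩ := decV_surjective hF w hw h2 v
      obtain ⟨p, -, hp⟩ := pnt_cls w hw h2 hc fun e => hv (e ▸ decV_zero w)
      exact ⟨p, hp.symm⟩)

/-- The action on the 21 points. -/
noncomputable def ι : Matrix.ProjectiveSpecialLinearGroup (Fin 3) F →* Equiv.Perm (Fin 21) :=
  ((ev hF w hw h2).symm.permCongrHom).toMonoidHom.comp Projectivization.PSLAction.toPermHom

theorem ι_injective : Function.Injective (ι hF w hw h2) :=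
  (ev hF w hw h2).symm.permCongrHom.injective.comp
    Matrix.ProjectiveSpecialLinearGroup.toPermHom_injective

/-- The generators. -/
noncomputable def gen (s : ℕ) : Matrix.ProjectiveSpecialLinearGroup (Fin 3) F :=
  if s < 5 then QuotientGroup.mk (evalW (tvec w) (tvWords.getD s [])) else 1

theorem gen_coded : Coded (w := 5) (k := 5) (ι hF w hw h2) (gen w) codes := by
  intro s hs p
  have h := allBelow_eq_true.mp gens_ok s hs
  simp only [Bool.and_eq_true, allBelow_eq_true, Nat.blt_eq, Nat.beq_eq] at h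
  obtain ⟨hwd, hp⟩ := h
  obtain ⟨⟨h0, hlt⟩, hc⟩ := hp p p.2
  have hwd' : ∀ t ∈ tvWords.getD s [], t < 18 := fun t ht => by
    simpa [Nat.blt_eq] using allB_spec hwd t ht
  obtain ⟨q, hq, hqp⟩ := pnt_cls w hw h2 hlt h0.ne'
  suffices ι hF w hw h2 (gen w s) p = q by rw [this, hq, ← hc]; rfl
  show (ev hF w hw h2).symm (Projectivization.PSLAction.toPermHom (gen w s)
    ((ev hF w hw h2).symm.symm p)) = q
  rw [Equiv.symm_symm, Equiv.symm_apply_eq, gen, if_pos hs]
  show evalW (tvec w) (tvWords.getD s []) • pnt w hw h2 p = pnt w hw h2 q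
  rw [← hqp, pnt, Projectivization.matrixSpecialLinearGroup_smul_def]
  simp only [Projectivization.smul_mk]
  congr 1
  exact (evalW_mulVec w hw h2 _ hwd' _ (getField_lt 6 _ _)).2

include hF in
theorem card_group : Nat.card (Matrix.ProjectiveSpecialLinearGroup (Fin 3) F) = 20160 := by
  have h := Cfsg.Agent.Classical.card_psl_mul (ι := Fin 3) (F := F)
  have h' := Cfsg.Agent.Classical.card_sl_mul hF 3 (by norm_num)
  simp only [Fin.prod_univ_three, Fin.val_zero, Fin.val_one, Fin.val_two] at h'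
  norm_num at h'
  rw [Fintype.card_fin, hF] at h
  norm_num at h
  omega

theorem hlt : ∀ b ∈ base, b < 21 := fun b hb => by simpa [Nat.blt_eq] using allB_spec blt_ok b hb

include hF hw h2 in
theorem gen_generates (x : Matrix.ProjectiveSpecialLinearGroup (Fin 3) F) :
    x ∈ Submonoid.closure (gen w '' {s | s < 5}) :=
  generates_of_card (gen_coded hF w hw h2) wf_ok below_ok hlt distinct_ok
    (shape_ok.2.2.trans (card_group hF).symm) x

end Field

/-- The homomorphism from a cyclic group given by an element. -/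
noncomputable def zmodHom {A : Type*} [CommGroup A] (n : ℕ) (a : A) (h : a ^ n = 1) :
    Multiplicative (ZMod n) →* A :=
  AddMonoidHom.toMultiplicativeLeft (ZMod.lift n
    ⟨zmultiplesHom (Additive A) (Additive.ofMul a), by
      simp only [zmultiplesHom_apply, natCast_zsmul]
      exact congrArg Additive.ofMul h⟩)

theorem zmodHom_apply {A : Type*} [CommGroup A] (n : ℕ) (a : A) (h : a ^ n = 1) (z : ℤ) :
    zmodHom n a h (Multiplicative.ofAdd (z : ZMod n)) = a ^ z := by
  show Additive.toMul (ZMod.lift n _ (z : ZMod n)) = _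
  rw [ZMod.lift_coe]
  rfl

/-- The homomorphism from Z3 × Z4 × Z4 given by three commuting elements. -/
noncomputable def tripleHom {A : Type*} [CommGroup A] (a b c : A) (ha : a ^ 3 = 1) (hb : b ^ 4 = 1)
    (hc : c ^ 4 = 1) : Multiplicative (ZMod 3 × ZMod 4 × ZMod 4) →* A :=
  ((zmodHom 3 a ha).comp (AddMonoidHom.toMultiplicative (AddMonoidHom.fst (ZMod 3) (ZMod 4 × ZMod 4)))) *
    (((zmodHom 4 b hb).comp (AddMonoidHom.toMultiplicative ((AddMonoidHom.fst (ZMod 4) (ZMod 4)).comp
      (AddMonoidHom.snd (ZMod 3) (ZMod 4 × ZMod 4))))) *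
    ((zmodHom 4 c hc).comp (AddMonoidHom.toMultiplicative ((AddMonoidHom.snd (ZMod 4) (ZMod 4)).comp
      (AddMonoidHom.snd (ZMod 3) (ZMod 4 × ZMod 4))))))

theorem tripleHom_apply {A : Type*} [CommGroup A] (a b c : A) (ha : a ^ 3 = 1) (hb : b ^ 4 = 1)
    (hc : c ^ 4 = 1) (x y z : ℤ) :
    tripleHom a b c ha hb hc (Multiplicative.ofAdd ((x : ZMod 3), (y : ZMod 4), (z : ZMod 4))) =
      a ^ x * (b ^ y * c ^ z) := by
  rw [← zmodHom_apply 3 a ha, ← zmodHom_apply 4 b hb, ← zmodHom_apply 4 c hc]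
  rfl

theorem rep_mul (a b : ℕ) : rep511.mul a b = compCode 9 511 a b := by
  unfold rep511 permRep
  with_reducible rfl

theorem rep_one : rep511.one = idCode 9 511 := by
  unfold rep511 permRep
  with_reducible rfl

theorem act511 {c : ℕ} (hc : rep511.Ok c) (x : Fin 511) :
    ((rep511.den c x : Fin 511) : ℕ) = getField 9 c x := by
  rw [show x = (Equiv.refl (Fin 511)) x from rfl]
  exact congrArg Fin.val (denPerm_apply (Equiv.refl (Fin 511)) hc x)

theorem lift_spec {s : ℕ} (hs : s < 5) :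
    lifts.getD s 0 ∈ topGens coverChain ∧ rep511.Ok (lifts.getD s 0) ∧
    (rep511.Ok (liftInvs.getD s 0) ∧
      rep511.den (liftInvs.getD s 0) = (rep511.den (lifts.getD s 0))⁻¹) ∧
    ∀ x < 63, getField 9 (lifts.getD s 0) x < 63 ∧
      getField 5 clsCode (getField 9 (lifts.getD s 0) x) =
        getField 5 (codes.getD s 0) (getField 5 clsCode x) := by
  have h := allBelow_eq_true.mp cover_codes s hs
  simp only [Bool.and_eq_true, allBelow_eq_true, Nat.beq_eq, Nat.blt_eq, memB_eq_true] at h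
  obtain ⟨⟨⟨⟨hm, hok⟩, hoki⟩, hinv⟩, hq⟩ := h
  have ho := rep511.okb_sound _ hok
  have hoi := rep511.okb_sound _ hoki
  refine ⟨hm, ho, ⟨hoi, eq_inv_of_mul_eq_one_left ?_⟩, hq⟩
  rw [← rep511.den_mul _ _ hoi ho, rep_mul, hinv, ← rep_one]
  exact rep511.den_one

theorem cent_spec {r : ℕ} (hr : r < 3) :
    rep511.Ok (centCodes.getD r 0) ∧
    (∀ p ∈ centPairs.getD r [], p.1 < 5 ∧ p.2 < 5) ∧
    commCode (centPairs.getD r []) = centCodes.getD r 0 ∧
    ∀ s < 5, rep511.den (lifts.getD s 0) * rep511.den (centCodes.getD r 0) =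
      rep511.den (centCodes.getD r 0) * rep511.den (lifts.getD s 0) := by
  have h := allBelow_eq_true.mp cent_codes r hr
  simp only [Bool.and_eq_true, allBelow_eq_true, Nat.beq_eq] at h
  obtain ⟨⟨⟨⟨hok, hp⟩, hc⟩, hcomm⟩, -⟩ := h
  have ho := rep511.okb_sound _ hok
  refine ⟨ho, fun p hp' => by simpa [Nat.blt_eq] using allB_spec hp p hp', hc, fun s hs => ?_⟩
  obtain ⟨-, hl, -, -⟩ := lift_spec hs
  rw [← rep511.den_mul _ _ hl ho, ← rep511.den_mul _ _ ho hl, rep_mul, rep_mul, hcomm s hs]

theorem powCode_spec {c : ℕ} (hc : rep511.Ok c) :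
    ∀ n, rep511.Ok (powCode c n) ∧ rep511.den (powCode c n) = rep511.den c ^ n
  | 0 => by
    rw [show powCode c 0 = idCode 9 511 from rfl, ← rep_one, pow_zero]
    exact ⟨rep511.ok_one, rep511.den_one⟩
  | n + 1 => by
    obtain ⟨h1, h2⟩ := powCode_spec hc n
    rw [show powCode c (n + 1) = compCode 9 511 c (powCode c n) from rfl, ← rep_mul]
    exact ⟨rep511.ok_mul _ _ hc h1, by rw [rep511.den_mul _ _ hc h1, h2, pow_succ']⟩

theorem pow_iterPt {c : ℕ} (hc : rep511.Ok c) : ∀ (n : ℕ) (x : Fin 511),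
    ((rep511.den c ^ n) x : ℕ) = iterPt c n x
  | 0, _ => rfl
  | n + 1, x => by
    rw [pow_succ', Equiv.Perm.mul_apply, act511 hc, pow_iterPt hc n x]
    rfl

theorem cent_pow : rep511.den (centCodes.getD 0 0) ^ 3 = 1 ∧
    rep511.den (centCodes.getD 1 0) ^ 4 = 1 ∧ rep511.den (centCodes.getD 2 0) ^ 4 = 1 := by
  have h := cent_orders
  simp only [Bool.and_eq_true, Nat.beq_eq] at h
  have key : ∀ r n, r < 3 → powCode (centCodes.getD r 0) n = idCode 9 511 →
      rep511.den (centCodes.getD r 0) ^ n = 1 := fun r n hr he => by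
    rw [← (powCode_spec (cent_spec hr).1 n).2, he, ← rep_one, rep511.den_one]
  obtain ⟨⟨⟨⟨⟨⟨⟨⟨⟨⟨⟨a, b⟩, c⟩, -⟩, -⟩, -⟩, -⟩, -⟩, -⟩, -⟩, -⟩, -⟩ := h
  exact ⟨key 0 3 (by norm_num) a, key 1 4 (by norm_num) b, key 2 4 (by norm_num) c⟩

theorem cent_free {a b c : ℕ} (ha : a < 3) (hb : b < 4) (hc : c < 4)
    (h : rep511.den (centCodes.getD 0 0) ^ a * (rep511.den (centCodes.getD 1 0) ^ b *
      rep511.den (centCodes.getD 2 0) ^ c) = 1) : a = 0 ∧ b = 0 ∧ c = 0 := by
  have hk := cent_orders
  simp only [Bool.and_eq_true, Nat.beq_eq, allBelow_eq_true, Bool.or_eq_true, Bool.not_eq_true',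
    ← Bool.not_eq_true] at hk
  obtain ⟨⟨⟨⟨⟨⟨⟨⟨⟨-, b0⟩, c0⟩, a1⟩, c1⟩, a2⟩, b2⟩, da⟩, db⟩, dc⟩ := hk
  have hfix : ∀ r, r < 3 → ∀ x : Fin 511, getField 9 (centCodes.getD r 0) x = x →
      ∀ n : ℕ, (rep511.den (centCodes.getD r 0) ^ n) x = x := fun r hr x hx n => by
    induction n with
    | zero => rfl
    | succ n ih =>
      rw [pow_succ', Equiv.Perm.mul_apply, ih]
      exact Fin.ext ((act511 (cent_spec hr).1 x).trans hx)
  have e : ∀ x : Fin 511, (rep511.den (centCodes.getD 0 0) ^ a)
      ((rep511.den (centCodes.getD 1 0) ^ b) ((rep511.den (centCodes.getD 2 0) ^ c) x)) = x :=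
    fun x => by rw [← Equiv.Perm.mul_apply, ← Equiv.Perm.mul_apply, mul_assoc, h]; rfl
  have ea := e ⟨0, by norm_num⟩
  rw [hfix 2 (by norm_num) _ c0, hfix 1 (by norm_num) _ b0] at ea
  have hA : a = 0 := by
    refine (da a ha).resolve_right (fun hn => hn ?_)
    have := congrArg Fin.val ea
    rwa [pow_iterPt (cent_spec (by norm_num)).1] at this
  have eb := e ⟨63, by norm_num⟩
  rw [hfix 2 (by norm_num) _ c1, hA, pow_zero, Equiv.Perm.one_apply] at eb
  have hB : b = 0 := by
    refine (db b hb).resolve_right (fun hn => hn ?_)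
    have := congrArg Fin.val eb
    rwa [pow_iterPt (cent_spec (by norm_num)).1] at this
  have ec := e ⟨287, by norm_num⟩
  rw [hA, hB, pow_zero, pow_zero, Equiv.Perm.one_apply, Equiv.Perm.one_apply] at ec
  refine ⟨hA, hB, (dc c hc).resolve_right (fun hn => hn ?_)⟩
  have := congrArg Fin.val ec
  rwa [pow_iterPt (cent_spec (by norm_num)).1] at this

section Cover

variable {F : Type u} [Field F] [Fintype F] (w : F)

/-- The cover, inside the product with the permutations of 511 points. -/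
noncomputable def cover :
    Subgroup (Matrix.ProjectiveSpecialLinearGroup (Fin 3) F × Equiv.Perm (Fin 511)) :=
  Subgroup.closure ((fun s => (gen w s, rep511.den (lifts.getD s 0))) '' {s | s < 5})

/-- The lifted generators. -/
noncomputable def lift (s : ℕ) : cover w :=
  if hs : s < 5 then ⟨(gen w s, rep511.den (lifts.getD s 0)), Subgroup.subset_closure ⟨s, hs, rfl⟩⟩
  else 1

theorem lift_val {s : ℕ} (hs : s < 5) :
    (lift w s).1 = (gen w s, rep511.den (lifts.getD s 0)) := by
  simp only [lift, dif_pos hs]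

/-- The covering map. -/
noncomputable def proj : cover w →* Matrix.ProjectiveSpecialLinearGroup (Fin 3) F :=
  (MonoidHom.fst _ _).comp (cover w).subtype

theorem commCode_spec : ∀ l : List (ℕ × ℕ), (∀ p ∈ l, p.1 < 5 ∧ p.2 < 5) →
    rep511.Ok (commCode l) ∧ rep511.den (commCode l) = (commProd (lift w) l).1.2
  | [], _ => by
    rw [show commCode [] = idCode 9 511 from rfl, ← rep_one]
    exact ⟨rep511.ok_one, rep511.den_one⟩
  | p :: l, h => by
    obtain ⟨ha, hb⟩ := h p (by simp)
    obtain ⟨ih1, ih2⟩ := commCode_spec l fun x hx => h x (by simp [hx])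
    obtain ⟨-, oa, ⟨oai, da⟩, -⟩ := lift_spec ha
    obtain ⟨-, ob, ⟨obi, db⟩, -⟩ := lift_spec hb
    have o1 := rep511.ok_mul _ _ oa ob
    have o2 := rep511.ok_mul _ _ o1 oai
    have o3 := rep511.ok_mul _ _ o2 obi
    have hcc : commCode (p :: l) = rep511.mul (rep511.mul (rep511.mul (rep511.mul (lifts.getD p.1 0)
        (lifts.getD p.2 0)) (liftInvs.getD p.1 0)) (liftInvs.getD p.2 0)) (commCode l) := by
      simp only [rep_mul]
      rfl
    rw [hcc]
    refine ⟨rep511.ok_mul _ _ o3 ih1, ?_⟩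
    rw [rep511.den_mul _ _ o3 ih1, rep511.den_mul _ _ o2 obi, rep511.den_mul _ _ o1 oai,
      rep511.den_mul _ _ oa ob, da, db, ih2,
      show commProd (lift w) (p :: l) = ⁅lift w p.1, lift w p.2⁆ * commProd (lift w) l from rfl,
      commutatorElement_def]
    simp only [Subgroup.coe_mul, Subgroup.coe_inv, lift_val w ha, lift_val w hb, Prod.snd_mul,
      Prod.snd_inv]

/-- The central elements. -/
noncomputable def zc (r : ℕ) : cover w := commProd (lift w) (centPairs.getD r [])

theorem zc_snd {r : ℕ} (hr : r < 3) : (zc w r).1.2 = rep511.den (centCodes.getD r 0) := by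
  obtain ⟨-, hp, hc, -⟩ := cent_spec hr
  rw [zc, ← (commCode_spec w _ hp).2, hc]

theorem zc_mem_commutator (r : ℕ) : zc w r ∈ commutator (cover w) :=
  list_prod_mem fun y hy => by
    obtain ⟨p, -, rfl⟩ := List.mem_map.mp hy
    exact Subgroup.commutator_mem_commutator (Subgroup.mem_top _) (Subgroup.mem_top _)

variable (hF : Fintype.card F = 4) (hw : w * w = w + 1) (h2 : (1 : F) + 1 = 0)

include hF hw h2 in
theorem compat (y : cover w) : ∀ x : Fin 511, (x : ℕ) < 63 → (y.1.2 x : ℕ) < 63 ∧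
    ∀ hp : getField 5 clsCode x < 21, (ι hF w hw h2 y.1.1 ⟨_, hp⟩ : ℕ) = getField 5 clsCode (y.1.2 x) := by
  have hy : y.1 ∈ Subgroup.closure ((fun s => (gen w s, rep511.den (lifts.getD s 0))) '' {s | s < 5}) := y.2
  rw [← Subgroup.mem_toSubmonoid, Subgroup.closure_toSubmonoid_of_finite] at hy
  generalize y.1 = q at hy ⊢
  induction hy using Submonoid.closure_induction with
  | mem t ht =>
    obtain ⟨s, hs, rfl⟩ := ht
    intro x hx
    obtain ⟨-, ho, -, hq⟩ := lift_spec hs
    obtain ⟨h1, h2'⟩ := hq x hx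
    show (rep511.den (lifts.getD s 0) x : ℕ) < 63 ∧ _
    rw [act511 ho]
    refine ⟨h1, fun hp => ?_⟩
    show (ι hF w hw h2 (gen w s) ⟨_, hp⟩ : ℕ) = getField 5 clsCode (getField 9 (lifts.getD s 0) x)
    rw [h2', gen_coded hF w hw h2 s hs]
  | one => exact fun x hx => ⟨hx, fun hp => by simp⟩
  | mul a b _ _ ha hb =>
    intro x hx
    obtain ⟨hb1, hb2⟩ := hb x hx
    obtain ⟨ha1, ha2⟩ := ha (b.2 x) hb1
    refine ⟨ha1, fun hp => ?_⟩
    have h := allBelow_eq_true.mp cls_ok (b.2 x : ℕ) hb1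
    simp only [Bool.and_eq_true, Nat.blt_eq] at h
    show (ι hF w hw h2 (a.1 * b.1) ⟨_, hp⟩ : ℕ) = getField 5 clsCode (a.2 (b.2 x) : ℕ)
    rw [map_mul, Equiv.Perm.mul_apply, ← ha2 h.1.1]
    exact congrArg (fun q => (ι hF w hw h2 a.1 q : ℕ)) (Fin.ext (hb2 hp))

include hF hw h2 in
theorem snd_injective : Function.Injective (fun y : cover w => y.1.2) := by
  have key : ∀ y : cover w, y.1.2 = 1 → y = 1 := fun y hy => by
    refine Subtype.ext (Prod.ext (ι_injective hF w hw h2 ?_) hy)
    rw [Subgroup.coe_one, Prod.fst_one, map_one]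
    refine Equiv.ext fun p => Fin.ext ?_
    obtain ⟨h0, hc⟩ := pt_spec p
    have hlt : getField 6 ptCode p - 1 < 511 := by
      have : getField 6 ptCode p < 64 := getField_lt _ _ _
      omega
    obtain ⟨-, h⟩ := compat w hF hw h2 y ⟨_, hlt⟩ (by
      have : getField 6 ptCode p < 64 := getField_lt _ _ _
      show getField 6 ptCode p - 1 < 63
      omega)
    have h' := h (by
      show getField 5 clsCode (getField 6 ptCode p - 1) < 21
      rw [hc]
      exact p.2)
    rw [hy] at h'
    simp only [Equiv.Perm.one_apply, hc, Fin.eta] at h'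
    exact h'
  intro a b hab
  refine inv_mul_eq_one.mp (key (a⁻¹ * b) ?_)
  show (a.1.2)⁻¹ * b.1.2 = 1
  rw [show a.1.2 = b.1.2 from hab, inv_mul_cancel]

include hF hw h2 in
theorem zc_ker {r : ℕ} (hr : r < 3) : zc w r ∈ (proj w).ker := by
  rw [MonoidHom.mem_ker]
  refine ι_injective hF w hw h2 (Equiv.ext fun p => Fin.ext ?_)
  obtain ⟨h0, hc⟩ := pt_spec p
  have h6 : getField 6 ptCode p < 64 := getField_lt _ _ _
  obtain ⟨-, h⟩ := compat w hF hw h2 (zc w r) ⟨getField 6 ptCode p - 1, by omega⟩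
    (show getField 6 ptCode p - 1 < 63 by omega)
  have h' := h (by
    show getField 5 clsCode (getField 6 ptCode p - 1) < 21
    rw [hc]
    exact p.2)
  have hq := allBelow_eq_true.mp cent_codes r hr
  simp only [Bool.and_eq_true, allBelow_eq_true, Nat.beq_eq] at hq
  rw [zc_snd w hr, act511 (cent_spec hr).1, (hq.2 _ (show getField 6 ptCode p - 1 < 63 by omega)).2] at h'
  simp only [hc, Fin.eta] at h'
  rw [map_one]
  exact h'

include hF hw h2 in
theorem zc_center {r : ℕ} (hr : r < 3) : zc w r ∈ Subgroup.center (cover w) := by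
  rw [Subgroup.mem_center_iff]
  intro y
  refine snd_injective w hF hw h2 ?_
  show y.1.2 * (zc w r).1.2 = (zc w r).1.2 * y.1.2
  rw [zc_snd w hr]
  have hy := y.2
  have hle : cover w ≤ (Subgroup.centralizer {rep511.den (centCodes.getD r 0)}).comap
      (MonoidHom.snd _ _) := by
    rw [cover, Subgroup.closure_le]
    rintro _ ⟨s, hs, rfl⟩
    rw [SetLike.mem_coe, Subgroup.mem_comap, Subgroup.mem_centralizer_iff]
    rintro _ rfl
    exact ((cent_spec hr).2.2.2 s hs).symm
  exact (Subgroup.mem_centralizer_iff.mp (hle hy) _ rfl).symm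

include hF hw h2 in
theorem card_cover_le : Nat.card (cover w) ≤ 967680 := by
  rw [← cover_size, ← rep511.card_chainGroup coverChain cover_check]
  have hle : cover w ≤ (rep511.chainGroup coverChain).comap (MonoidHom.snd _ _) := by
    rw [cover, Subgroup.closure_le]
    rintro _ ⟨s, hs, rfl⟩
    exact rep511.den_mem_span (lift_spec hs).1
  refine Nat.card_le_card_of_injective (fun y => ⟨y.1.2, hle y.2⟩) fun a b h => ?_
  exact snd_injective w hF hw h2 (congrArg Subtype.val h)

include hF hw h2 in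
theorem proj_surjective : Function.Surjective (proj w) := by
  intro x
  have hx := gen_generates hF w hw h2 x
  induction hx using Submonoid.closure_induction with
  | mem t ht =>
    obtain ⟨s, hs, rfl⟩ := ht
    exact ⟨lift w s, by rw [proj, MonoidHom.comp_apply, Subgroup.coe_subtype, MonoidHom.coe_fst, lift_val w hs]⟩
  | one => exact ⟨1, map_one _⟩
  | mul a b _ _ ha hb =>
    obtain ⟨a', rfl⟩ := ha
    obtain ⟨b', rfl⟩ := hb
    exact ⟨a' * b', map_mul _ _ _⟩

include hF hw h2 in
theorem exists_stem : ∃ (Γ : Type u) (_ : Group Γ) (_ : Finite Γ)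
    (σ : Γ →* Matrix.ProjectiveSpecialLinearGroup (Fin 3) F),
    Cfsg.IsStemExtension σ ∧ Nonempty (σ.ker ≃* Multiplicative (ZMod 3 × ZMod 4 × ZMod 4)) := by
  letI : CommGroup (Subgroup.center (cover w)) :=
    { (inferInstance : Group (Subgroup.center (cover w))) with
      mul_comm := fun a b => Subtype.ext (Subgroup.mem_center_iff.mp b.2 a) }
  let Z : ℕ → Subgroup.center (cover w) := fun r =>
    if hr : r < 3 then ⟨zc w r, zc_center w hF hw h2 hr⟩ else 1
  have hZ : ∀ r (hr : r < 3), (Z r : cover w) = zc w r := fun r hr => by simp [Z, dif_pos hr]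
  have hsnd : ∀ r, r < 3 → ∀ n : ℕ, ((Z r : cover w) ^ n).1.2 = rep511.den (centCodes.getD r 0) ^ n :=
    fun r hr n => by rw [Subgroup.coe_pow, Prod.pow_snd, hZ r hr, zc_snd w hr]
  have hpw : ∀ r n, r < 3 → rep511.den (centCodes.getD r 0) ^ n = 1 → Z r ^ n = 1 := fun r n hr h => by
    apply Subtype.ext
    apply snd_injective w hF hw h2
    show ((Z r ^ n : Subgroup.center (cover w)) : cover w).1.2 = _
    rw [Subgroup.coe_pow, hsnd r hr, h]
    rfl
  let φ := tripleHom (Z 0) (Z 1) (Z 2) (hpw 0 3 (by norm_num) cent_pow.1)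
    (hpw 1 4 (by norm_num) cent_pow.2.1) (hpw 2 4 (by norm_num) cent_pow.2.2)
  let π : Multiplicative (ZMod 3 × ZMod 4 × ZMod 4) →* cover w := (Subgroup.center _).subtype.comp φ
  have hval : ∀ v : ZMod 3 × ZMod 4 × ZMod 4, π (Multiplicative.ofAdd v) =
      (Z 0 : cover w) ^ v.1.val * ((Z 1 : cover w) ^ v.2.1.val * (Z 2 : cover w) ^ v.2.2.val) := by
    rintro ⟨x, y, z⟩
    have e := tripleHom_apply (Z 0) (Z 1) (Z 2) (hpw 0 3 (by norm_num) cent_pow.1)
      (hpw 1 4 (by norm_num) cent_pow.2.1) (hpw 2 4 (by norm_num) cent_pow.2.2)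
      (x.val : ℤ) (y.val : ℤ) (z.val : ℤ)
    simp only [Int.cast_natCast, ZMod.natCast_zmod_val, zpow_natCast] at e
    show ((φ _ : Subgroup.center (cover w)) : cover w) = _
    rw [e]
    simp
  have hinj : Function.Injective π := by
    rw [injective_iff_map_eq_one]
    intro v hv
    rw [← ofAdd_toAdd v, hval] at hv
    have := congrArg (fun y : cover w => y.1.2) hv
    simp only [Subgroup.coe_mul, Prod.snd_mul, hsnd 0 (by norm_num), hsnd 1 (by norm_num),
      hsnd 2 (by norm_num), Subgroup.coe_one, Prod.snd_one] at this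
    obtain ⟨a, b, c⟩ := cent_free (ZMod.val_lt _) (ZMod.val_lt _) (ZMod.val_lt _) this
    rw [ZMod.val_eq_zero] at a b c
    rw [← ofAdd_toAdd v, ← ofAdd_zero]
    exact congrArg _ (Prod.ext a (Prod.ext b c))
  have hrange : π.range ≤ (proj w).ker := by
    rintro _ ⟨v, rfl⟩
    rw [← ofAdd_toAdd v, hval]
    refine mul_mem (pow_mem ?_ _) (mul_mem (pow_mem ?_ _) (pow_mem ?_ _)) <;>
      rw [hZ _ (by norm_num)] <;> exact zc_ker w hF hw h2 (by norm_num)
  have hcard : Nat.card π.range = 48 := by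
    rw [← Nat.card_congr (MonoidHom.ofInjective hinj).toEquiv]
    simp [Nat.card_eq_fintype_card]
  have hker : (proj w).ker = π.range := by
    refine (Subgroup.eq_of_le_of_card_ge hrange ?_).symm
    have h1 := Subgroup.card_mul_index (proj w).ker
    rw [Subgroup.index_ker, MonoidHom.range_eq_top.mpr (proj_surjective w hF hw h2), Subgroup.card_top,
      card_group hF] at h1
    have h3 := card_cover_le w hF hw h2
    rw [hcard]
    generalize Nat.card (proj w).ker = c at h1 ⊢
    omega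
  refine ⟨cover w, inferInstance, inferInstance, proj w,
    ⟨proj_surjective w hF hw h2, ?_, ?_⟩, ⟨(MulEquiv.subgroupCongr hker).trans (MonoidHom.ofInjective hinj).symm⟩⟩
  · rw [hker]
    rintro _ ⟨v, rfl⟩
    exact (φ v).2
  · rw [hker]
    rintro _ ⟨v, rfl⟩
    rw [← ofAdd_toAdd v, hval]
    refine mul_mem (pow_mem ?_ _) (mul_mem (pow_mem ?_ _) (pow_mem ?_ _)) <;>
      rw [hZ _ (by norm_num)] <;> exact zc_mem_commutator w _

include hF hw h2 in
theorem kernel_bound {Γ : Type u} [Group Γ] [Finite Γ]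
    (σ : Γ →* Matrix.ProjectiveSpecialLinearGroup (Fin 3) F) (hσ : Cfsg.IsStemExtension σ) :
    ∃ π : Multiplicative (ZMod 3 × ZMod 4 × ZMod 4) →* σ.ker, Function.Surjective π := by
  have hcard : numForms cert.D = Nat.card (Matrix.ProjectiveSpecialLinearGroup (Fin 3) F) :=
    shape_ok.2.2.trans (card_group hF).symm
  have hb := isBase_of_card (gen_coded hF w hw h2) wf_ok below_ok hlt distinct_ok hcard
  obtain ⟨u, hu, hle⟩ := exists_generators (gen w) checked
    (tableOK_of_check (gen_coded hF w hw h2) hb wf_ok below_ok fun i hi =>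
      allBelow_eq_true.mp table_ok i (shape_ok.1 ▸ hi))
    (faithful_of_distinct (gen_coded hF w hw h2) wf_ok below_ok hlt distinct_ok)
    (gen_generates hF w hw h2)
    (commProd_of_check (gen_coded hF w hw h2) hb pow_ok below_ok commData_ok comm_ok)
    (by rw [card_group hF, shape_ok.2.1]) σ hσ
  letI : CommGroup σ.ker :=
    { (inferInstance : Group σ.ker) with
      mul_comm := fun a b => Subtype.ext (Subgroup.mem_center_iff.mp (hσ.2.1 b.2) a) }
  let U : ℕ → σ.ker := fun r => if hr : r < multi.ords.length then ⟨u r, (hu r hr).1⟩ else 1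
  have hords : multi.ords = [3, 4, 4] := rfl
  have hU : ∀ r, r < 3 → (U r : Γ) = u r := fun r hr => by
    simp only [U, dif_pos (show r < multi.ords.length by rw [hords]; exact hr)]
  have hUp : ∀ r (hr : r < multi.ords.length), U r ^ multi.ords.getD r 0 = 1 := fun r hr => by
    apply Subtype.ext
    rw [Subgroup.coe_pow, show (U r : Γ) = u r by simp only [U, dif_pos hr]]
    exact (hu r hr).2
  have h0 : U 0 ^ 3 = 1 := by simpa [hords] using hUp 0 (by rw [hords]; simp)
  have h1 : U 1 ^ 4 = 1 := by simpa [hords] using hUp 1 (by rw [hords]; simp)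
  have h2' : U 2 ^ 4 = 1 := by simpa [hords] using hUp 2 (by rw [hords]; simp)
  let φ := tripleHom (U 0) (U 1) (U 2) h0 h1 h2'
  refine ⟨φ, fun z => ?_⟩
  suffices (Subgroup.closure (u '' {r | r < multi.ords.length})) ≤ φ.range.map σ.ker.subtype by
    obtain ⟨y, ⟨x, hx⟩, hy⟩ := this (hle z.2)
    exact ⟨x, hx.trans (Subtype.ext hy)⟩
  rw [Subgroup.closure_le]
  rintro _ ⟨r, hr, rfl⟩
  have e0 := tripleHom_apply (U 0) (U 1) (U 2) h0 h1 h2' 1 0 0
  have e1 := tripleHom_apply (U 0) (U 1) (U 2) h0 h1 h2' 0 1 0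
  have e2 := tripleHom_apply (U 0) (U 1) (U 2) h0 h1 h2' 0 0 1
  simp only [zpow_zero, zpow_one, mul_one, one_mul] at e0 e1 e2
  have hr3 : r < 3 := by simpa [hords] using hr
  rw [SetLike.mem_coe]
  refine ⟨U r, ?_, hU r hr3⟩
  interval_cases r
  exacts [⟨_, e0⟩, ⟨_, e1⟩, ⟨_, e2⟩]

include hF in
theorem multiplier : Cfsg.HasSchurMultiplier (Matrix.ProjectiveSpecialLinearGroup (Fin 3) F)
    (Multiplicative (ZMod 3 × ZMod 4 × ZMod 4)) := by
  obtain ⟨w, hw, h2⟩ := exists_omega hF
  exact ⟨exists_stem w hF hw h2, fun Γ _ _ σ hσ => kernel_bound w hF hw h2 σ hσ⟩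

end Cover

end Cfsg.Agent.SLMult.L34
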