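import Cfsg.Agent.SLMult.L34CoverData

/-! The stabiliser chain of the cover of PSL(3,4) is correct. -/

set_option autoImplicit false
set_option maxHeartbeats 0
set_option maxRecDepth 100000
set_option Elab.async false

namespace Cfsg.Agent.SLMult.L34

open Cfsg.Agent.Compute

/-- Permutations of 511 points. -/
noncomputable def rep511 : Rep (Equiv.Perm (Fin 511)) (Fin 511) :=
  permRep 9 511 (Equiv.refl _) (by norm_num) (by norm_num)

/-- The Schreier condition of the top level at one coset. -/
noncomputable def topAt (j : ℕ) : Bool :=
  coverL0.gens.all (fun s =>
    Nat.blt (coverL0.pos (rep511.act (rep511.mul s (rep511.entry coverL0 j).u) coverL0.base))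
      coverL0.size &&
    Nat.beq (rep511.sift [coverL0, coverL1, coverL2, coverL3, coverL4]
      (rep511.mul s (rep511.entry coverL0 j).u)) rep511.one)

theorem top_a : allBelow 21 (fun i => topAt i) = true := by decide +kernel
theorem top_b : allBelow 21 (fun i => topAt (Nat.add i 21)) = true := by decide +kernel
theorem top_c : allBelow 21 (fun i => topAt (Nat.add i 42)) = true := by decide +kernel

theorem top_rest : (Nat.blt coverL0.base rep511.n && Nat.blt 0 coverL0.size &&
    coverL0.gens.all rep511.okb &&
    (topGens [coverL1, coverL2, coverL3, coverL4]).all (fun g =>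
      memB g coverL0.gens && Nat.beq (rep511.act g coverL0.base) coverL0.base) &&
    allBelow coverL0.size (rep511.checkEntry coverL0) && Nat.beq coverL0.size 63) = true := by
  decide +kernel

theorem level1_ok : rep511.checkLevel coverL1 [coverL2, coverL3, coverL4] = true := by decide +kernel
theorem level2_ok : rep511.checkLevel coverL2 [coverL3, coverL4] = true := by decide +kernel
theorem level3_ok : rep511.checkLevel coverL3 [coverL4] = true := by decide +kernel
theorem level4_ok : rep511.checkLevel coverL4 [] = true := by decide +kernel
theorem cover_size : chainSize coverChain = 967680 := by decide +kernel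

theorem cover_check : rep511.checkChain coverChain = true := by
  have h := top_rest
  simp only [Bool.and_eq_true, Nat.beq_eq] at h
  obtain ⟨h0, hsz⟩ := h
  have hs : allBelow coverL0.size topAt = true := by
    rw [allBelow_eq_true, hsz]
    intro j hj
    by_cases h1 : j < 21
    · exact allBelow_eq_true.mp top_a j h1
    by_cases h2 : j < 42
    · have := allBelow_eq_true.mp top_b (j - 21) (by omega)
      rwa [show Nat.add (j - 21) 21 = j from Nat.sub_add_cancel (by omega)] at this
    · have := allBelow_eq_true.mp top_c (j - 42) (by omega)
      rwa [show Nat.add (j - 42) 42 = j from Nat.sub_add_cancel (by omega)] at this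
  have l0 : rep511.checkLevel coverL0 [coverL1, coverL2, coverL3, coverL4] = true := by
    rw [Rep.checkLevel, Bool.and_eq_true]
    refine ⟨?_, hs⟩
    simp only [Bool.and_eq_true]
    exact h0
  show rep511.checkChain [coverL0, coverL1, coverL2, coverL3, coverL4] = true
  rw [Rep.checkChain_cons, Rep.checkChain_cons, Rep.checkChain_cons, Rep.checkChain_cons,
    Rep.checkChain_cons, l0, level1_ok, level2_ok, level3_ok, level4_ok]
  rfl

end Cfsg.Agent.SLMult.L34
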